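import Cfsg.Agent.Spor.J24.D0

set_option autoImplicit false
set_option maxRecDepth 100000000
set_option Elab.async false

namespace Cfsg.Agent.Spor.J24

theorem ok0 : Net.okb 5 n0 = true := by decide +kernel

theorem ok1 : Net.okb 5 n1 = true := by decide +kernel

theorem ok2 : Net.okb 5 n2 = true := by decide +kernel

theorem ok3 : Net.okb 5 n3 = true := by decide +kernel

theorem ok4 : Net.okb 5 n4 = true := by decide +kernel

theorem ok5 : Net.okb 5 n5 = true := by decide +kernel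

theorem ok6 : Net.okb 5 n6 = true := by decide +kernel

theorem ok7 : Net.okb 5 n7 = true := by decide +kernel

theorem ok8 : Net.okb 5 n8 = true := by decide +kernel

theorem ok9 : Net.okb 5 n9 = true := by decide +kernel

theorem ok10 : Net.okb 5 n10 = true := by decide +kernel

theorem ok11 : Net.okb 5 n11 = true := by decide +kernel

theorem ok12 : Net.okb 5 n12 = true := by decide +kernel

theorem ok13 : Net.okb 5 n13 = true := by decide +kernel

theorem ok14 : Net.okb 5 n14 = true := by decide +kernel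

theorem ok15 : Net.okb 5 n15 = true := by decide +kernel

theorem ok16 : Net.okb 5 n16 = true := by decide +kernel

theorem ok17 : Net.okb 5 n17 = true := by decide +kernel

theorem ok18 : Net.okb 5 n18 = true := by decide +kernel

theorem ok19 : Net.okb 5 n19 = true := by decide +kernel

theorem ok20 : Net.okb 5 n20 = true := by decide +kernel

theorem ok21 : Net.okb 5 n21 = true := by decide +kernel

theorem ok22 : Net.okb 5 n22 = true := by decide +kernel

theorem ok23 : Net.okb 5 n23 = true := by decide +kernel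

theorem ok24 : Net.okb 5 n24 = true := by decide +kernel

theorem ok25 : Net.okb 5 n25 = true := by decide +kernel

theorem ok26 : Net.okb 5 n26 = true := by decide +kernel

theorem rel0 : T.rel 5 [5, 4, 3, 2, 3, 4, 3, 4, 3, 4, 1, 2, 1, 2, 1, 4, 1, 2] 0 5 = true := by decide +kernel

theorem rel1 : T.rel 5 [7, 4, 3, 2, 3, 4, 3, 2, 3, 4, 1, 4, 1, 2, 1, 4, 1, 2] 0 5 = true := by decide +kernel

theorem rel2 : T.rel 5 [9, 4, 3, 2, 3, 2, 3, 2, 3, 4, 3, 4, 1, 2, 1, 4, 1, 4, 1, 4, 1, 2] 0 5 = true := by decide +kernel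

theorem rel3 : T.rel 5 [11, 4, 3, 2, 3, 2, 3, 2, 3, 2, 3, 4, 1, 4, 1, 4, 1, 4, 1, 4, 1, 2] 0 5 = true := by decide +kernel

theorem rel4 : T.rel 5 [13, 4, 4, 1] 0 5 = true := by decide +kernel

theorem rel5 : T.rel 5 [15, 4, 3, 4, 3, 4, 1, 2, 1, 2] 0 5 = true := by decide +kernel

theorem rel6 : T.rel 5 [17, 4, 3, 2, 3, 2, 3, 4, 3, 4, 1, 2, 1, 4, 1, 4, 1, 2] 0 5 = true := by decide +kernel

theorem rel7 : T.rel 5 [19, 4, 3, 4, 4, 4, 1, 2] 0 5 = true := by decide +kernel

theorem rel8 : T.rel 5 [21, 4, 3, 2, 3, 3, 4, 1, 2] 0 5 = true := by decide +kernel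

theorem rel9 : T.rel 5 [23, 4, 3, 2, 3, 2, 3, 3, 4, 1, 4, 1, 2] 0 5 = true := by decide +kernel

theorem rel10 : T.rel 5 [25, 4, 3, 2, 3, 4, 3, 4, 3, 3, 2, 1, 2, 1, 4, 1, 2] 0 5 = true := by decide +kernel

theorem rel11 : T.rel 5 [27, 4, 3, 2, 3, 2, 3, 2, 3, 3, 4, 1, 4, 1, 4, 1, 2] 0 5 = true := by decide +kernel

theorem rel12 : T.rel 5 [29, 4, 3, 4, 3, 3, 2, 1, 2] 0 5 = true := by decide +kernel

theorem rel13 : T.rel 5 [31, 4, 3, 2, 3, 4, 4, 4, 1, 4, 1, 2] 0 5 = true := by decide +kernel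

theorem rel14 : T.rel 5 [33, 4, 3, 2, 3, 4, 3, 4, 4, 4, 1, 2, 1, 4, 1, 2] 0 5 = true := by decide +kernel

theorem rel15 : T.rel 5 [35, 4, 3, 2, 3, 2, 3, 4, 3, 3, 2, 1, 4, 1, 4, 1, 2] 0 5 = true := by decide +kernel

theorem rel16 : T.rel 5 [37, 4, 3, 2, 3, 2, 3, 2, 3, 4, 4, 4, 1, 4, 1, 4, 1, 4, 1, 2] 0 5 = true := by decide +kernel

theorem rel17 : T.rel 5 [39, 4, 3, 2, 3, 2, 3, 2, 3, 2, 3, 3, 4, 1, 4, 1, 4, 1, 4, 1, 2] 0 5 = true := by decide +kernel

theorem rel18 : T.rel 5 [41, 3, 3] 0 5 = true := by decide +kernel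

theorem rel19 : T.rel 5 [43, 4, 3, 3, 2] 0 5 = true := by decide +kernel

theorem rel20 : T.rel 5 [45, 4, 3, 2, 3, 4, 3, 3, 2, 1, 4, 1, 2] 0 5 = true := by decide +kernel

theorem rel21 : T.rel 5 [47, 4, 3, 2, 3, 2, 3, 4, 4, 4, 1, 4, 1, 4, 1, 2] 0 5 = true := by decide +kernel

theorem rel22 : T.rel 5 [49, 4, 3, 2, 3, 4, 3, 2, 3, 3, 4, 1, 2, 1, 4, 1, 2] 0 5 = true := by decide +kernel

theorem rel23 : T.rel 5 [51, 4, 3, 2, 3, 2, 3, 2, 3, 4, 3, 3, 2, 1, 4, 1, 4, 1, 4, 1, 2] 0 5 = true := by decide +kernel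

theorem rel24 : T.rel 5 [53, 3, 4] 0 5 = true := by decide +kernel

theorem rel25 : T.rel 5 [1, 1] 0 5 = true := by decide +kernel

theorem rel26 : T.rel 5 [2, 2, 2] 0 5 = true := by decide +kernel

theorem rel27 : T.rel 5 [2, 1, 2, 1, 2, 1, 2, 1, 2, 1, 2, 1, 2, 1, 2, 1, 2, 1, 2, 1, 2, 1, 2, 1, 2, 1, 2, 1, 2, 1, 2, 1, 2, 1, 2, 1, 2, 1, 2, 1, 2, 1, 2, 1, 2, 1] 0 5 = true := by decide +kernel

theorem rel28 : T.rel 5 [2, 1, 4, 3, 2, 1, 4, 3, 2, 1, 4, 3, 2, 1, 4, 3, 2, 1, 4, 3, 2, 1, 4, 3, 2, 1, 4, 3, 2, 1, 4, 3, 2, 1, 4, 3, 2, 1, 4, 3, 2, 1, 4, 3, 2, 1, 4, 3] 0 5 = true := by decide +kernel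

theorem rel29 : T.rel 5 [2, 1, 2, 1, 4, 3, 4, 3, 2, 1, 2, 1, 4, 3, 4, 3, 2, 1, 2, 1, 4, 3, 4, 3, 2, 1, 2, 1, 4, 3, 4, 3, 2, 1, 2, 1, 4, 3, 4, 3] 0 5 = true := by decide +kernel

theorem rel30 : T.rel 5 [4, 1, 2, 1, 4, 1, 2, 1, 4, 1, 2, 1, 2, 1, 4, 1, 2, 1, 4, 1, 2, 1, 4, 1, 2, 1, 2, 1, 4, 1, 2, 1, 4, 1, 2, 1, 4, 1, 2, 1, 2, 1, 4, 1, 2, 1, 4, 1, 2, 1, 4, 1, 2, 1, 2, 1] 0 5 = true := by decide +kernel

theorem rel31 : T.rel 5 [4, 1, 4, 1, 2, 1, 4, 1, 4, 1, 2, 1, 4, 1, 4, 1, 2, 1, 4, 1, 2, 1, 2, 1, 4, 1, 2, 1, 2, 1, 4, 1, 2, 1, 2, 1] 0 5 = true := by decide +kernel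

theorem hcov : T.treeCov (ones 24) L 1 = true := by decide +kernel

theorem hg : lall (fun z => band (memL L z) (band (sub (ones 24) (T.let z).cl) (T.closed (ones 24) z))) gs = true := by decide +kernel

theorem rot1_1 : T.rot 1 [1] (sel (ones 24) ip1 1) = true := by decide +kernel

theorem rot1_1r : band (Rule.ok (2 * 0) EX RL ⟨1 :: [1], [], 0, true⟩) (lall (memL L) [1]) = true := by decide +kernel

theorem cov1 : T.cover 1 [(sel (ones 24) ip1 1)] = true := by decide +kernel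

theorem tl1 : T.treeLt 5 1 = true := by decide +kernel

theorem rot2_1 : T.rot 2 [4] (sel (ones 24) ip2 1) = true := by decide +kernel

theorem rot2_1r : band (Rule.ok (2 * 0) EX RL ⟨2 :: [4], [], 7, false⟩) (lall (memL L) [4]) = true := by decide +kernel

theorem rot2_2 : T.rot 2 [2, 2] (sel (ones 24) ip2 2) = true := by decide +kernel

theorem rot2_2r : band (Rule.ok (2 * 0) EX RL ⟨2 :: [2, 2], [], 1, true⟩) (lall (memL L) [2, 2]) = true := by decide +kernel

theorem rot2_3 : T.rot 2 [1, 54] (sel (ones 24) ip2 3) = true := by decide +kernel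

theorem rot2_3r : band (Rule.ok (2 * 0) EX RL ⟨2 :: [1, 54], [], 7, false⟩) (lall (memL L) [1, 54]) = true := by decide +kernel

theorem rot2_4 : T.rot 2 [2, 14, 3] (sel (ones 24) ip2 4) = true := by decide +kernel

theorem rot2_4r : band (Rule.ok (2 * 0) EX RL ⟨2 :: [2, 14, 3], [], 7, false⟩) (lall (memL L) [2, 14, 3]) = true := by decide +kernel

theorem rot2_5 : T.rot 2 [1, 2, 1, 2, 16, 4, 3, 4, 3] (sel (ones 24) ip2 5) = true := by decide +kernel

theorem rot2_5r : band (Rule.ok (2 * 0) EX RL ⟨2 :: [1, 2, 1, 2, 16, 4, 3, 4, 3], [], 7, false⟩) (lall (memL L) [1, 2, 1, 2, 16, 4, 3, 4, 3]) = true := by decide +kernel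

theorem rot2_6 : T.rot 2 [1, 2, 1, 2, 1, 4, 1, 2, 6, 4, 3, 2, 3, 4, 3, 4, 3] (sel (ones 24) ip2 6) = true := by decide +kernel

theorem rot2_6r : band (Rule.ok (2 * 0) EX RL ⟨2 :: [1, 2, 1, 2, 1, 4, 1, 2, 6, 4, 3, 2, 3, 4, 3, 4, 3], [], 7, false⟩) (lall (memL L) [1, 2, 1, 2, 1, 4, 1, 2, 6, 4, 3, 2, 3, 4, 3, 4, 3]) = true := by decide +kernel

theorem rot2_7 : T.rot 2 [1, 4, 1, 2, 1, 4, 1, 2, 8, 4, 3, 2, 3, 4, 3, 2, 3] (sel (ones 24) ip2 7) = true := by decide +kernel

theorem rot2_7r : band (Rule.ok (2 * 0) EX RL ⟨2 :: [1, 4, 1, 2, 1, 4, 1, 2, 8, 4, 3, 2, 3, 4, 3, 2, 3], [], 7, false⟩) (lall (memL L) [1, 4, 1, 2, 1, 4, 1, 2, 8, 4, 3, 2, 3, 4, 3, 2, 3]) = true := by decide +kernel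

theorem rot2_8 : T.rot 2 [1, 2, 1, 4, 1, 4, 1, 2, 18, 4, 3, 2, 3, 2, 3, 4, 3] (sel (ones 24) ip2 8) = true := by decide +kernel

theorem rot2_8r : band (Rule.ok (2 * 0) EX RL ⟨2 :: [1, 2, 1, 4, 1, 4, 1, 2, 18, 4, 3, 2, 3, 2, 3, 4, 3], [], 7, false⟩) (lall (memL L) [1, 2, 1, 4, 1, 4, 1, 2, 18, 4, 3, 2, 3, 2, 3, 4, 3]) = true := by decide +kernel

theorem rot2_9 : T.rot 2 [1, 2, 1, 4, 1, 4, 1, 4, 1, 2, 10, 4, 3, 2, 3, 2, 3, 2, 3, 4, 3] (sel (ones 24) ip2 9) = true := by decide +kernel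

theorem rot2_9r : band (Rule.ok (2 * 0) EX RL ⟨2 :: [1, 2, 1, 4, 1, 4, 1, 4, 1, 2, 10, 4, 3, 2, 3, 2, 3, 2, 3, 4, 3], [], 7, false⟩) (lall (memL L) [1, 2, 1, 4, 1, 4, 1, 4, 1, 2, 10, 4, 3, 2, 3, 2, 3, 2, 3, 4, 3]) = true := by decide +kernel

theorem rot2_10 : T.rot 2 [1, 4, 1, 4, 1, 4, 1, 4, 1, 2, 12, 4, 3, 2, 3, 2, 3, 2, 3, 2, 3] (sel (ones 24) ip2 10) = true := by decide +kernel

theorem rot2_10r : band (Rule.ok (2 * 0) EX RL ⟨2 :: [1, 4, 1, 4, 1, 4, 1, 4, 1, 2, 12, 4, 3, 2, 3, 2, 3, 2, 3, 2, 3], [], 7, false⟩) (lall (memL L) [1, 4, 1, 4, 1, 4, 1, 4, 1, 2, 12, 4, 3, 2, 3, 2, 3, 2, 3, 2, 3]) = true := by decide +kernel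

theorem cov2 : T.cover 2 [(sel (ones 24) ip2 1), (sel (ones 24) ip2 2), (sel (ones 24) ip2 3), (sel (ones 24) ip2 4), (sel (ones 24) ip2 5), (sel (ones 24) ip2 6), (sel (ones 24) ip2 7), (sel (ones 24) ip2 8), (sel (ones 24) ip2 9), (sel (ones 24) ip2 10)] = true := by decide +kernel

theorem tl2 : T.treeLt 5 2 = true := by decide +kernel

theorem rot3_1 : T.rot 3 [1] (sel (ones 24) ip3 1) = true := by decide +kernel

theorem rot3_1r : band (Rule.ok (2 * 0) EX RL ⟨3 :: [1], [], 7, false⟩) (lall (memL L) [1]) = true := by decide +kernel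

theorem rot3_2 : T.rot 3 [3] (sel (ones 24) ip3 2) = true := by decide +kernel

theorem rot3_2r : band (Rule.ok (2 * 0) EX RL ⟨3 :: [3], [], 0, false⟩) (lall (memL L) [3]) = true := by decide +kernel

theorem rot3_3 : T.rot 3 [3, 2, 43, 4] (sel (ones 24) ip3 3) = true := by decide +kernel

theorem rot3_3r : band (Rule.ok (2 * 0) EX RL ⟨3 :: [3, 2, 43, 4], [], 7, false⟩) (lall (memL L) [3, 2, 43, 4]) = true := by decide +kernel

theorem cov3 : T.cover 3 [(sel (ones 24) ip3 1), (sel (ones 24) ip3 2), (sel (ones 24) ip3 3)] = true := by decide +kernel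

theorem tl3 : Nat.beq (T.let 3).tt 0 = true := by decide +kernel

theorem rot4_1 : T.rot 4 [2] (sel (ones 24) ip4 1) = true := by decide +kernel

theorem rot4_1r : band (Rule.ok (2 * 0) EX RL ⟨4 :: [2], [], 7, false⟩) (lall (memL L) [2]) = true := by decide +kernel

theorem rot4_2 : T.rot 4 [4, 4] (sel (ones 24) ip4 2) = true := by decide +kernel

theorem rot4_2r : band (Rule.ok (2 * 0) EX RL ⟨4 :: [4, 4], [], 1, false⟩) (lall (memL L) [4, 4]) = true := by decide +kernel

theorem rot4_3 : T.rot 4 [53, 3] (sel (ones 24) ip4 3) = true := by decide +kernel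

theorem rot4_3r : band (Rule.ok (2 * 0) EX RL ⟨4 :: [53, 3], [], 7, false⟩) (lall (memL L) [53, 3]) = true := by decide +kernel

theorem rot4_4 : T.rot 4 [1, 13, 4] (sel (ones 24) ip4 4) = true := by decide +kernel

theorem rot4_4r : band (Rule.ok (2 * 0) EX RL ⟨4 :: [1, 13, 4], [], 7, false⟩) (lall (memL L) [1, 13, 4]) = true := by decide +kernel

theorem rot4_5 : T.rot 4 [1, 2, 1, 2, 15, 4, 3, 4, 3] (sel (ones 24) ip4 5) = true := by decide +kernel

theorem rot4_5r : band (Rule.ok (2 * 0) EX RL ⟨4 :: [1, 2, 1, 2, 15, 4, 3, 4, 3], [], 7, false⟩) (lall (memL L) [1, 2, 1, 2, 15, 4, 3, 4, 3]) = true := by decide +kernel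

theorem rot4_6 : T.rot 4 [1, 2, 1, 2, 1, 4, 1, 2, 5, 4, 3, 2, 3, 4, 3, 4, 3] (sel (ones 24) ip4 6) = true := by decide +kernel

theorem rot4_6r : band (Rule.ok (2 * 0) EX RL ⟨4 :: [1, 2, 1, 2, 1, 4, 1, 2, 5, 4, 3, 2, 3, 4, 3, 4, 3], [], 7, false⟩) (lall (memL L) [1, 2, 1, 2, 1, 4, 1, 2, 5, 4, 3, 2, 3, 4, 3, 4, 3]) = true := by decide +kernel

theorem rot4_7 : T.rot 4 [1, 4, 1, 2, 1, 4, 1, 2, 7, 4, 3, 2, 3, 4, 3, 2, 3] (sel (ones 24) ip4 7) = true := by decide +kernel

theorem rot4_7r : band (Rule.ok (2 * 0) EX RL ⟨4 :: [1, 4, 1, 2, 1, 4, 1, 2, 7, 4, 3, 2, 3, 4, 3, 2, 3], [], 7, false⟩) (lall (memL L) [1, 4, 1, 2, 1, 4, 1, 2, 7, 4, 3, 2, 3, 4, 3, 2, 3]) = true := by decide +kernel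

theorem rot4_8 : T.rot 4 [1, 2, 1, 4, 1, 4, 1, 2, 17, 4, 3, 2, 3, 2, 3, 4, 3] (sel (ones 24) ip4 8) = true := by decide +kernel

theorem rot4_8r : band (Rule.ok (2 * 0) EX RL ⟨4 :: [1, 2, 1, 4, 1, 4, 1, 2, 17, 4, 3, 2, 3, 2, 3, 4, 3], [], 7, false⟩) (lall (memL L) [1, 2, 1, 4, 1, 4, 1, 2, 17, 4, 3, 2, 3, 2, 3, 4, 3]) = true := by decide +kernel

theorem rot4_9 : T.rot 4 [1, 2, 1, 4, 1, 4, 1, 4, 1, 2, 9, 4, 3, 2, 3, 2, 3, 2, 3, 4, 3] (sel (ones 24) ip4 9) = true := by decide +kernel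

theorem rot4_9r : band (Rule.ok (2 * 0) EX RL ⟨4 :: [1, 2, 1, 4, 1, 4, 1, 4, 1, 2, 9, 4, 3, 2, 3, 2, 3, 2, 3, 4, 3], [], 7, false⟩) (lall (memL L) [1, 2, 1, 4, 1, 4, 1, 4, 1, 2, 9, 4, 3, 2, 3, 2, 3, 2, 3, 4, 3]) = true := by decide +kernel

theorem rot4_10 : T.rot 4 [1, 4, 1, 4, 1, 4, 1, 4, 1, 2, 11, 4, 3, 2, 3, 2, 3, 2, 3, 2, 3] (sel (ones 24) ip4 10) = true := by decide +kernel

theorem rot4_10r : band (Rule.ok (2 * 0) EX RL ⟨4 :: [1, 4, 1, 4, 1, 4, 1, 4, 1, 2, 11, 4, 3, 2, 3, 2, 3, 2, 3, 2, 3], [], 7, false⟩) (lall (memL L) [1, 4, 1, 4, 1, 4, 1, 4, 1, 2, 11, 4, 3, 2, 3, 2, 3, 2, 3, 2, 3]) = true := by decide +kernel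

theorem cov4 : T.cover 4 [(sel (ones 24) ip4 1), (sel (ones 24) ip4 2), (sel (ones 24) ip4 3), (sel (ones 24) ip4 4), (sel (ones 24) ip4 5), (sel (ones 24) ip4 6), (sel (ones 24) ip4 7), (sel (ones 24) ip4 8), (sel (ones 24) ip4 9), (sel (ones 24) ip4 10)] = true := by decide +kernel

theorem tl4 : T.treeLt 5 4 = true := by decide +kernel

theorem cov5 : T.cover 5 [1] = true := by decide +kernel

theorem tl5 : Nat.beq (T.let 5).tt 0 = true := by decide +kernel

theorem rot6_1 : T.rot 6 [5] (sel (ones 24) ip6 1) = true := by decide +kernel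

theorem rot6_1r : band (Rule.ok (2 * 0) EX RL ⟨6 :: [5], [], 7, false⟩) (lall (memL L) [5]) = true := by decide +kernel

theorem cov6 : T.cover 6 [(sel (ones 24) ip6 1)] = true := by decide +kernel

theorem tl6 : Nat.beq (T.let 6).tt 0 = true := by decide +kernel

theorem cov7 : T.cover 7 [1] = true := by decide +kernel

theorem tl7 : Nat.beq (T.let 7).tt 0 = true := by decide +kernel

theorem rot8_1 : T.rot 8 [7] (sel (ones 24) ip8 1) = true := by decide +kernel

theorem rot8_1r : band (Rule.ok (2 * 0) EX RL ⟨8 :: [7], [], 7, false⟩) (lall (memL L) [7]) = true := by decide +kernel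

theorem cov8 : T.cover 8 [(sel (ones 24) ip8 1)] = true := by decide +kernel

theorem tl8 : Nat.beq (T.let 8).tt 0 = true := by decide +kernel

theorem cov9 : T.cover 9 [1] = true := by decide +kernel

theorem tl9 : Nat.beq (T.let 9).tt 0 = true := by decide +kernel

theorem rot10_1 : T.rot 10 [9] (sel (ones 24) ip10 1) = true := by decide +kernel

theorem rot10_1r : band (Rule.ok (2 * 0) EX RL ⟨10 :: [9], [], 7, false⟩) (lall (memL L) [9]) = true := by decide +kernel

theorem cov10 : T.cover 10 [(sel (ones 24) ip10 1)] = true := by decide +kernel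

theorem tl10 : Nat.beq (T.let 10).tt 0 = true := by decide +kernel

theorem cov11 : T.cover 11 [1] = true := by decide +kernel

theorem tl11 : Nat.beq (T.let 11).tt 0 = true := by decide +kernel

theorem rot12_1 : T.rot 12 [11] (sel (ones 24) ip12 1) = true := by decide +kernel

theorem rot12_1r : band (Rule.ok (2 * 0) EX RL ⟨12 :: [11], [], 7, false⟩) (lall (memL L) [11]) = true := by decide +kernel

theorem cov12 : T.cover 12 [(sel (ones 24) ip12 1)] = true := by decide +kernel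

theorem tl12 : Nat.beq (T.let 12).tt 0 = true := by decide +kernel

theorem cov13 : T.cover 13 [1] = true := by decide +kernel

theorem tl13 : Nat.beq (T.let 13).tt 0 = true := by decide +kernel

theorem rot14_1 : T.rot 14 [13] (sel (ones 24) ip14 1) = true := by decide +kernel

theorem rot14_1r : band (Rule.ok (2 * 0) EX RL ⟨14 :: [13], [], 7, false⟩) (lall (memL L) [13]) = true := by decide +kernel

theorem cov14 : T.cover 14 [(sel (ones 24) ip14 1)] = true := by decide +kernel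

theorem tl14 : Nat.beq (T.let 14).tt 0 = true := by decide +kernel

theorem cov15 : T.cover 15 [1] = true := by decide +kernel

theorem tl15 : Nat.beq (T.let 15).tt 0 = true := by decide +kernel

theorem rot16_1 : T.rot 16 [15] (sel (ones 24) ip16 1) = true := by decide +kernel

theorem rot16_1r : band (Rule.ok (2 * 0) EX RL ⟨16 :: [15], [], 7, false⟩) (lall (memL L) [15]) = true := by decide +kernel

theorem cov16 : T.cover 16 [(sel (ones 24) ip16 1)] = true := by decide +kernel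

theorem tl16 : Nat.beq (T.let 16).tt 0 = true := by decide +kernel

theorem cov17 : T.cover 17 [1] = true := by decide +kernel

theorem tl17 : Nat.beq (T.let 17).tt 0 = true := by decide +kernel

theorem rot18_1 : T.rot 18 [17] (sel (ones 24) ip18 1) = true := by decide +kernel

theorem rot18_1r : band (Rule.ok (2 * 0) EX RL ⟨18 :: [17], [], 7, false⟩) (lall (memL L) [17]) = true := by decide +kernel

theorem cov18 : T.cover 18 [(sel (ones 24) ip18 1)] = true := by decide +kernel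

theorem tl18 : Nat.beq (T.let 18).tt 0 = true := by decide +kernel

theorem cov19 : T.cover 19 [] = true := by decide +kernel

theorem tl19 : Nat.beq (T.let 19).tt 0 = true := by decide +kernel

theorem cov20 : T.cover 20 [] = true := by decide +kernel

theorem tl20 : Nat.beq (T.let 20).tt 0 = true := by decide +kernel

theorem cov21 : T.cover 21 [] = true := by decide +kernel

theorem tl21 : Nat.beq (T.let 21).tt 0 = true := by decide +kernel

theorem cov22 : T.cover 22 [] = true := by decide +kernel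

theorem tl22 : Nat.beq (T.let 22).tt 0 = true := by decide +kernel

theorem cov23 : T.cover 23 [] = true := by decide +kernel

theorem tl23 : Nat.beq (T.let 23).tt 0 = true := by decide +kernel

theorem cov24 : T.cover 24 [] = true := by decide +kernel

theorem tl24 : Nat.beq (T.let 24).tt 0 = true := by decide +kernel

theorem cov25 : T.cover 25 [] = true := by decide +kernel

theorem tl25 : Nat.beq (T.let 25).tt 0 = true := by decide +kernel

theorem cov26 : T.cover 26 [] = true := by decide +kernel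

theorem tl26 : Nat.beq (T.let 26).tt 0 = true := by decide +kernel

theorem cov27 : T.cover 27 [] = true := by decide +kernel

theorem tl27 : Nat.beq (T.let 27).tt 0 = true := by decide +kernel

theorem cov28 : T.cover 28 [] = true := by decide +kernel

theorem tl28 : Nat.beq (T.let 28).tt 0 = true := by decide +kernel

theorem cov29 : T.cover 29 [] = true := by decide +kernel

theorem tl29 : Nat.beq (T.let 29).tt 0 = true := by decide +kernel

theorem cov30 : T.cover 30 [] = true := by decide +kernel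

theorem tl30 : Nat.beq (T.let 30).tt 0 = true := by decide +kernel

theorem cov31 : T.cover 31 [] = true := by decide +kernel

theorem tl31 : Nat.beq (T.let 31).tt 0 = true := by decide +kernel

theorem cov32 : T.cover 32 [] = true := by decide +kernel

theorem tl32 : Nat.beq (T.let 32).tt 0 = true := by decide +kernel

theorem cov33 : T.cover 33 [] = true := by decide +kernel

theorem tl33 : Nat.beq (T.let 33).tt 0 = true := by decide +kernel

theorem cov34 : T.cover 34 [] = true := by decide +kernel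

theorem tl34 : Nat.beq (T.let 34).tt 0 = true := by decide +kernel

theorem cov35 : T.cover 35 [] = true := by decide +kernel

theorem tl35 : Nat.beq (T.let 35).tt 0 = true := by decide +kernel

theorem cov36 : T.cover 36 [] = true := by decide +kernel

theorem tl36 : Nat.beq (T.let 36).tt 0 = true := by decide +kernel

theorem cov37 : T.cover 37 [] = true := by decide +kernel

theorem tl37 : Nat.beq (T.let 37).tt 0 = true := by decide +kernel

theorem cov38 : T.cover 38 [] = true := by decide +kernel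

theorem tl38 : Nat.beq (T.let 38).tt 0 = true := by decide +kernel

theorem cov39 : T.cover 39 [] = true := by decide +kernel

theorem tl39 : Nat.beq (T.let 39).tt 0 = true := by decide +kernel

theorem cov40 : T.cover 40 [] = true := by decide +kernel

theorem tl40 : Nat.beq (T.let 40).tt 0 = true := by decide +kernel

theorem cov41 : T.cover 41 [] = true := by decide +kernel

theorem tl41 : Nat.beq (T.let 41).tt 0 = true := by decide +kernel

theorem cov42 : T.cover 42 [] = true := by decide +kernel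

theorem tl42 : Nat.beq (T.let 42).tt 0 = true := by decide +kernel

theorem cov43 : T.cover 43 [1] = true := by decide +kernel

theorem tl43 : Nat.beq (T.let 43).tt 0 = true := by decide +kernel

theorem cov44 : T.cover 44 [] = true := by decide +kernel

theorem tl44 : Nat.beq (T.let 44).tt 0 = true := by decide +kernel

theorem cov45 : T.cover 45 [] = true := by decide +kernel

theorem tl45 : Nat.beq (T.let 45).tt 0 = true := by decide +kernel

theorem cov46 : T.cover 46 [] = true := by decide +kernel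

theorem tl46 : Nat.beq (T.let 46).tt 0 = true := by decide +kernel

theorem cov47 : T.cover 47 [] = true := by decide +kernel

theorem tl47 : Nat.beq (T.let 47).tt 0 = true := by decide +kernel

theorem cov48 : T.cover 48 [] = true := by decide +kernel

theorem tl48 : Nat.beq (T.let 48).tt 0 = true := by decide +kernel

theorem cov49 : T.cover 49 [] = true := by decide +kernel

theorem tl49 : Nat.beq (T.let 49).tt 0 = true := by decide +kernel

theorem cov50 : T.cover 50 [] = true := by decide +kernel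

theorem tl50 : Nat.beq (T.let 50).tt 0 = true := by decide +kernel

theorem cov51 : T.cover 51 [] = true := by decide +kernel

theorem tl51 : Nat.beq (T.let 51).tt 0 = true := by decide +kernel

theorem cov52 : T.cover 52 [] = true := by decide +kernel

theorem tl52 : Nat.beq (T.let 52).tt 0 = true := by decide +kernel

theorem cov53 : T.cover 53 [1] = true := by decide +kernel

theorem tl53 : Nat.beq (T.let 53).tt 0 = true := by decide +kernel

theorem rot54_1 : T.rot 54 [53] (sel (ones 24) ip54 1) = true := by decide +kernel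

theorem rot54_1r : band (Rule.ok (2 * 0) EX RL ⟨54 :: [53], [], 7, false⟩) (lall (memL L) [53]) = true := by decide +kernel

theorem cov54 : T.cover 54 [(sel (ones 24) ip54 1)] = true := by decide +kernel

theorem tl54 : Nat.beq (T.let 54).tt 0 = true := by decide +kernel

end Cfsg.Agent.Spor.J24
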