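import Cfsg.Agent.Spor.Cert
import Cfsg.Agent.Spor.J24.C0

set_option autoImplicit false
set_option maxRecDepth 100000000
set_option Elab.async false
set_option linter.unusedSectionVars false

namespace Cfsg.Agent.Spor.J24

theorem hT : T.Ok 5 := T.ok_of 5 (show AllP (fun n => Net.okb 5 n = true) [n0, n1, n2, n3, n4, n5, n6, n7, n8, n9, n10, n11, n12, n13, n14, n15, n16, n17, n18, n19, n20, n21, n22, n23, n24, n25, n26] from AllP.cons ok0 (AllP.cons ok1 (AllP.cons ok2 (AllP.cons ok3 (AllP.cons ok4 (AllP.cons ok5 (AllP.cons ok6 (AllP.cons ok7 (AllP.cons ok8 (AllP.cons ok9 (AllP.cons ok10 (AllP.cons ok11 (AllP.cons ok12 (AllP.cons ok13 (AllP.cons ok14 (AllP.cons ok15 (AllP.cons ok16 (AllP.cons ok17 (AllP.cons ok18 (AllP.cons ok19 (AllP.cons ok20 (AllP.cons ok21 (AllP.cons ok22 (AllP.cons ok23 (AllP.cons ok24 (AllP.cons ok25 (AllP.cons ok26 (AllP.nil))))))))))))))))))))))))))))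

noncomputable def fP : ℕ → Equiv.Perm ℕ := T.fP gs

theorem hsq : ∀ j < 0, j < 2 → T.fP gs j * T.fP gs j = 1 :=
  Tab.sq (show AllP (fun z => evA T.τ [z, z] = 1) [] from AllP.nil) 2 rfl

theorem hiv : IvOk (2 * 0) (atm 2 (T.fP gs)) := ivOk_atm hsq

theorem pz1 : PZ T (atm 2 (T.fP gs)) EX 1 := PZ.of_atom (y := 2 * 0) (by decide +kernel) (atm_two_mul _ (by decide))
theorem pz2 : PZ T (atm 2 (T.fP gs)) EX 2 := PZ.of_atom (y := 2 * 1) (by decide +kernel) (atm_two_mul _ (by decide))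
theorem pz3 : PZ T (atm 2 (T.fP gs)) EX 3 := PZ.of_inv hiv pz1 (by decide +kernel)
theorem pz4 : PZ T (atm 2 (T.fP gs)) EX 4 := PZ.of_inv hiv pz2 (by decide +kernel)
theorem pz5 : PZ T (atm 2 (T.fP gs)) EX 5 := PZ.of_def hiv (d := [4, 3, 2, 3, 4, 3, 4, 3, 4, 1, 2, 1, 2, 1, 4, 1, 2]) (AllP.cons pz4 (AllP.cons pz3 (AllP.cons pz2 (AllP.cons pz3 (AllP.cons pz4 (AllP.cons pz3 (AllP.cons pz4 (AllP.cons pz3 (AllP.cons pz4 (AllP.cons pz1 (AllP.cons pz2 (AllP.cons pz1 (AllP.cons pz2 (AllP.cons pz1 (AllP.cons pz4 (AllP.cons pz1 (AllP.cons pz2 (AllP.nil)))))))))))))))))) (hT.one rel0) (by decide +kernel)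
theorem pz6 : PZ T (atm 2 (T.fP gs)) EX 6 := PZ.of_inv hiv pz5 (by decide +kernel)
theorem pz7 : PZ T (atm 2 (T.fP gs)) EX 7 := PZ.of_def hiv (d := [4, 3, 2, 3, 4, 3, 2, 3, 4, 1, 4, 1, 2, 1, 4, 1, 2]) (AllP.cons pz4 (AllP.cons pz3 (AllP.cons pz2 (AllP.cons pz3 (AllP.cons pz4 (AllP.cons pz3 (AllP.cons pz2 (AllP.cons pz3 (AllP.cons pz4 (AllP.cons pz1 (AllP.cons pz4 (AllP.cons pz1 (AllP.cons pz2 (AllP.cons pz1 (AllP.cons pz4 (AllP.cons pz1 (AllP.cons pz2 (AllP.nil)))))))))))))))))) (hT.one rel1) (by decide +kernel)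
theorem pz8 : PZ T (atm 2 (T.fP gs)) EX 8 := PZ.of_inv hiv pz7 (by decide +kernel)
theorem pz9 : PZ T (atm 2 (T.fP gs)) EX 9 := PZ.of_def hiv (d := [4, 3, 2, 3, 2, 3, 2, 3, 4, 3, 4, 1, 2, 1, 4, 1, 4, 1, 4, 1, 2]) (AllP.cons pz4 (AllP.cons pz3 (AllP.cons pz2 (AllP.cons pz3 (AllP.cons pz2 (AllP.cons pz3 (AllP.cons pz2 (AllP.cons pz3 (AllP.cons pz4 (AllP.cons pz3 (AllP.cons pz4 (AllP.cons pz1 (AllP.cons pz2 (AllP.cons pz1 (AllP.cons pz4 (AllP.cons pz1 (AllP.cons pz4 (AllP.cons pz1 (AllP.cons pz4 (AllP.cons pz1 (AllP.cons pz2 (AllP.nil)))))))))))))))))))))) (hT.one rel2) (by decide +kernel)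
theorem pz10 : PZ T (atm 2 (T.fP gs)) EX 10 := PZ.of_inv hiv pz9 (by decide +kernel)
theorem pz11 : PZ T (atm 2 (T.fP gs)) EX 11 := PZ.of_def hiv (d := [4, 3, 2, 3, 2, 3, 2, 3, 2, 3, 4, 1, 4, 1, 4, 1, 4, 1, 4, 1, 2]) (AllP.cons pz4 (AllP.cons pz3 (AllP.cons pz2 (AllP.cons pz3 (AllP.cons pz2 (AllP.cons pz3 (AllP.cons pz2 (AllP.cons pz3 (AllP.cons pz2 (AllP.cons pz3 (AllP.cons pz4 (AllP.cons pz1 (AllP.cons pz4 (AllP.cons pz1 (AllP.cons pz4 (AllP.cons pz1 (AllP.cons pz4 (AllP.cons pz1 (AllP.cons pz4 (AllP.cons pz1 (AllP.cons pz2 (AllP.nil)))))))))))))))))))))) (hT.one rel3) (by decide +kernel)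
theorem pz12 : PZ T (atm 2 (T.fP gs)) EX 12 := PZ.of_inv hiv pz11 (by decide +kernel)
theorem pz13 : PZ T (atm 2 (T.fP gs)) EX 13 := PZ.of_def hiv (d := [4, 4, 1]) (AllP.cons pz4 (AllP.cons pz4 (AllP.cons pz1 (AllP.nil)))) (hT.one rel4) (by decide +kernel)
theorem pz14 : PZ T (atm 2 (T.fP gs)) EX 14 := PZ.of_inv hiv pz13 (by decide +kernel)
theorem pz15 : PZ T (atm 2 (T.fP gs)) EX 15 := PZ.of_def hiv (d := [4, 3, 4, 3, 4, 1, 2, 1, 2]) (AllP.cons pz4 (AllP.cons pz3 (AllP.cons pz4 (AllP.cons pz3 (AllP.cons pz4 (AllP.cons pz1 (AllP.cons pz2 (AllP.cons pz1 (AllP.cons pz2 (AllP.nil)))))))))) (hT.one rel5) (by decide +kernel)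
theorem pz16 : PZ T (atm 2 (T.fP gs)) EX 16 := PZ.of_inv hiv pz15 (by decide +kernel)
theorem pz17 : PZ T (atm 2 (T.fP gs)) EX 17 := PZ.of_def hiv (d := [4, 3, 2, 3, 2, 3, 4, 3, 4, 1, 2, 1, 4, 1, 4, 1, 2]) (AllP.cons pz4 (AllP.cons pz3 (AllP.cons pz2 (AllP.cons pz3 (AllP.cons pz2 (AllP.cons pz3 (AllP.cons pz4 (AllP.cons pz3 (AllP.cons pz4 (AllP.cons pz1 (AllP.cons pz2 (AllP.cons pz1 (AllP.cons pz4 (AllP.cons pz1 (AllP.cons pz4 (AllP.cons pz1 (AllP.cons pz2 (AllP.nil)))))))))))))))))) (hT.one rel6) (by decide +kernel)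
theorem pz18 : PZ T (atm 2 (T.fP gs)) EX 18 := PZ.of_inv hiv pz17 (by decide +kernel)
theorem pz19 : PZ T (atm 2 (T.fP gs)) EX 19 := PZ.of_def hiv (d := [4, 3, 4, 4, 4, 1, 2]) (AllP.cons pz4 (AllP.cons pz3 (AllP.cons pz4 (AllP.cons pz4 (AllP.cons pz4 (AllP.cons pz1 (AllP.cons pz2 (AllP.nil)))))))) (hT.one rel7) (by decide +kernel)
theorem pz20 : PZ T (atm 2 (T.fP gs)) EX 20 := PZ.of_inv hiv pz19 (by decide +kernel)
theorem pz21 : PZ T (atm 2 (T.fP gs)) EX 21 := PZ.of_def hiv (d := [4, 3, 2, 3, 3, 4, 1, 2]) (AllP.cons pz4 (AllP.cons pz3 (AllP.cons pz2 (AllP.cons pz3 (AllP.cons pz3 (AllP.cons pz4 (AllP.cons pz1 (AllP.cons pz2 (AllP.nil))))))))) (hT.one rel8) (by decide +kernel)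
theorem pz22 : PZ T (atm 2 (T.fP gs)) EX 22 := PZ.of_inv hiv pz21 (by decide +kernel)
theorem pz23 : PZ T (atm 2 (T.fP gs)) EX 23 := PZ.of_def hiv (d := [4, 3, 2, 3, 2, 3, 3, 4, 1, 4, 1, 2]) (AllP.cons pz4 (AllP.cons pz3 (AllP.cons pz2 (AllP.cons pz3 (AllP.cons pz2 (AllP.cons pz3 (AllP.cons pz3 (AllP.cons pz4 (AllP.cons pz1 (AllP.cons pz4 (AllP.cons pz1 (AllP.cons pz2 (AllP.nil))))))))))))) (hT.one rel9) (by decide +kernel)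
theorem pz24 : PZ T (atm 2 (T.fP gs)) EX 24 := PZ.of_inv hiv pz23 (by decide +kernel)
theorem pz25 : PZ T (atm 2 (T.fP gs)) EX 25 := PZ.of_def hiv (d := [4, 3, 2, 3, 4, 3, 4, 3, 3, 2, 1, 2, 1, 4, 1, 2]) (AllP.cons pz4 (AllP.cons pz3 (AllP.cons pz2 (AllP.cons pz3 (AllP.cons pz4 (AllP.cons pz3 (AllP.cons pz4 (AllP.cons pz3 (AllP.cons pz3 (AllP.cons pz2 (AllP.cons pz1 (AllP.cons pz2 (AllP.cons pz1 (AllP.cons pz4 (AllP.cons pz1 (AllP.cons pz2 (AllP.nil))))))))))))))))) (hT.one rel10) (by decide +kernel)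
theorem pz26 : PZ T (atm 2 (T.fP gs)) EX 26 := PZ.of_inv hiv pz25 (by decide +kernel)
theorem pz27 : PZ T (atm 2 (T.fP gs)) EX 27 := PZ.of_def hiv (d := [4, 3, 2, 3, 2, 3, 2, 3, 3, 4, 1, 4, 1, 4, 1, 2]) (AllP.cons pz4 (AllP.cons pz3 (AllP.cons pz2 (AllP.cons pz3 (AllP.cons pz2 (AllP.cons pz3 (AllP.cons pz2 (AllP.cons pz3 (AllP.cons pz3 (AllP.cons pz4 (AllP.cons pz1 (AllP.cons pz4 (AllP.cons pz1 (AllP.cons pz4 (AllP.cons pz1 (AllP.cons pz2 (AllP.nil))))))))))))))))) (hT.one rel11) (by decide +kernel)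
theorem pz28 : PZ T (atm 2 (T.fP gs)) EX 28 := PZ.of_inv hiv pz27 (by decide +kernel)
theorem pz29 : PZ T (atm 2 (T.fP gs)) EX 29 := PZ.of_def hiv (d := [4, 3, 4, 3, 3, 2, 1, 2]) (AllP.cons pz4 (AllP.cons pz3 (AllP.cons pz4 (AllP.cons pz3 (AllP.cons pz3 (AllP.cons pz2 (AllP.cons pz1 (AllP.cons pz2 (AllP.nil))))))))) (hT.one rel12) (by decide +kernel)
theorem pz30 : PZ T (atm 2 (T.fP gs)) EX 30 := PZ.of_inv hiv pz29 (by decide +kernel)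
theorem pz31 : PZ T (atm 2 (T.fP gs)) EX 31 := PZ.of_def hiv (d := [4, 3, 2, 3, 4, 4, 4, 1, 4, 1, 2]) (AllP.cons pz4 (AllP.cons pz3 (AllP.cons pz2 (AllP.cons pz3 (AllP.cons pz4 (AllP.cons pz4 (AllP.cons pz4 (AllP.cons pz1 (AllP.cons pz4 (AllP.cons pz1 (AllP.cons pz2 (AllP.nil)))))))))))) (hT.one rel13) (by decide +kernel)
theorem pz32 : PZ T (atm 2 (T.fP gs)) EX 32 := PZ.of_inv hiv pz31 (by decide +kernel)
theorem pz33 : PZ T (atm 2 (T.fP gs)) EX 33 := PZ.of_def hiv (d := [4, 3, 2, 3, 4, 3, 4, 4, 4, 1, 2, 1, 4, 1, 2]) (AllP.cons pz4 (AllP.cons pz3 (AllP.cons pz2 (AllP.cons pz3 (AllP.cons pz4 (AllP.cons pz3 (AllP.cons pz4 (AllP.cons pz4 (AllP.cons pz4 (AllP.cons pz1 (AllP.cons pz2 (AllP.cons pz1 (AllP.cons pz4 (AllP.cons pz1 (AllP.cons pz2 (AllP.nil)))))))))))))))) (hT.one rel14) (by decide +kernel)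
theorem pz34 : PZ T (atm 2 (T.fP gs)) EX 34 := PZ.of_inv hiv pz33 (by decide +kernel)
theorem pz35 : PZ T (atm 2 (T.fP gs)) EX 35 := PZ.of_def hiv (d := [4, 3, 2, 3, 2, 3, 4, 3, 3, 2, 1, 4, 1, 4, 1, 2]) (AllP.cons pz4 (AllP.cons pz3 (AllP.cons pz2 (AllP.cons pz3 (AllP.cons pz2 (AllP.cons pz3 (AllP.cons pz4 (AllP.cons pz3 (AllP.cons pz3 (AllP.cons pz2 (AllP.cons pz1 (AllP.cons pz4 (AllP.cons pz1 (AllP.cons pz4 (AllP.cons pz1 (AllP.cons pz2 (AllP.nil))))))))))))))))) (hT.one rel15) (by decide +kernel)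
theorem pz36 : PZ T (atm 2 (T.fP gs)) EX 36 := PZ.of_inv hiv pz35 (by decide +kernel)
theorem pz37 : PZ T (atm 2 (T.fP gs)) EX 37 := PZ.of_def hiv (d := [4, 3, 2, 3, 2, 3, 2, 3, 4, 4, 4, 1, 4, 1, 4, 1, 4, 1, 2]) (AllP.cons pz4 (AllP.cons pz3 (AllP.cons pz2 (AllP.cons pz3 (AllP.cons pz2 (AllP.cons pz3 (AllP.cons pz2 (AllP.cons pz3 (AllP.cons pz4 (AllP.cons pz4 (AllP.cons pz4 (AllP.cons pz1 (AllP.cons pz4 (AllP.cons pz1 (AllP.cons pz4 (AllP.cons pz1 (AllP.cons pz4 (AllP.cons pz1 (AllP.cons pz2 (AllP.nil)))))))))))))))))))) (hT.one rel16) (by decide +kernel)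
theorem pz38 : PZ T (atm 2 (T.fP gs)) EX 38 := PZ.of_inv hiv pz37 (by decide +kernel)
theorem pz39 : PZ T (atm 2 (T.fP gs)) EX 39 := PZ.of_def hiv (d := [4, 3, 2, 3, 2, 3, 2, 3, 2, 3, 3, 4, 1, 4, 1, 4, 1, 4, 1, 2]) (AllP.cons pz4 (AllP.cons pz3 (AllP.cons pz2 (AllP.cons pz3 (AllP.cons pz2 (AllP.cons pz3 (AllP.cons pz2 (AllP.cons pz3 (AllP.cons pz2 (AllP.cons pz3 (AllP.cons pz3 (AllP.cons pz4 (AllP.cons pz1 (AllP.cons pz4 (AllP.cons pz1 (AllP.cons pz4 (AllP.cons pz1 (AllP.cons pz4 (AllP.cons pz1 (AllP.cons pz2 (AllP.nil))))))))))))))))))))) (hT.one rel17) (by decide +kernel)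
theorem pz40 : PZ T (atm 2 (T.fP gs)) EX 40 := PZ.of_inv hiv pz39 (by decide +kernel)
theorem pz41 : PZ T (atm 2 (T.fP gs)) EX 41 := PZ.of_def hiv (d := [3, 3]) (AllP.cons pz3 (AllP.cons pz3 (AllP.nil))) (hT.one rel18) (by decide +kernel)
theorem pz42 : PZ T (atm 2 (T.fP gs)) EX 42 := PZ.of_inv hiv pz41 (by decide +kernel)
theorem pz43 : PZ T (atm 2 (T.fP gs)) EX 43 := PZ.of_def hiv (d := [4, 3, 3, 2]) (AllP.cons pz4 (AllP.cons pz3 (AllP.cons pz3 (AllP.cons pz2 (AllP.nil))))) (hT.one rel19) (by decide +kernel)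
theorem pz44 : PZ T (atm 2 (T.fP gs)) EX 44 := PZ.of_inv hiv pz43 (by decide +kernel)
theorem pz45 : PZ T (atm 2 (T.fP gs)) EX 45 := PZ.of_def hiv (d := [4, 3, 2, 3, 4, 3, 3, 2, 1, 4, 1, 2]) (AllP.cons pz4 (AllP.cons pz3 (AllP.cons pz2 (AllP.cons pz3 (AllP.cons pz4 (AllP.cons pz3 (AllP.cons pz3 (AllP.cons pz2 (AllP.cons pz1 (AllP.cons pz4 (AllP.cons pz1 (AllP.cons pz2 (AllP.nil))))))))))))) (hT.one rel20) (by decide +kernel)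
theorem pz46 : PZ T (atm 2 (T.fP gs)) EX 46 := PZ.of_inv hiv pz45 (by decide +kernel)
theorem pz47 : PZ T (atm 2 (T.fP gs)) EX 47 := PZ.of_def hiv (d := [4, 3, 2, 3, 2, 3, 4, 4, 4, 1, 4, 1, 4, 1, 2]) (AllP.cons pz4 (AllP.cons pz3 (AllP.cons pz2 (AllP.cons pz3 (AllP.cons pz2 (AllP.cons pz3 (AllP.cons pz4 (AllP.cons pz4 (AllP.cons pz4 (AllP.cons pz1 (AllP.cons pz4 (AllP.cons pz1 (AllP.cons pz4 (AllP.cons pz1 (AllP.cons pz2 (AllP.nil)))))))))))))))) (hT.one rel21) (by decide +kernel)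
theorem pz48 : PZ T (atm 2 (T.fP gs)) EX 48 := PZ.of_inv hiv pz47 (by decide +kernel)
theorem pz49 : PZ T (atm 2 (T.fP gs)) EX 49 := PZ.of_def hiv (d := [4, 3, 2, 3, 4, 3, 2, 3, 3, 4, 1, 2, 1, 4, 1, 2]) (AllP.cons pz4 (AllP.cons pz3 (AllP.cons pz2 (AllP.cons pz3 (AllP.cons pz4 (AllP.cons pz3 (AllP.cons pz2 (AllP.cons pz3 (AllP.cons pz3 (AllP.cons pz4 (AllP.cons pz1 (AllP.cons pz2 (AllP.cons pz1 (AllP.cons pz4 (AllP.cons pz1 (AllP.cons pz2 (AllP.nil))))))))))))))))) (hT.one rel22) (by decide +kernel)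
theorem pz50 : PZ T (atm 2 (T.fP gs)) EX 50 := PZ.of_inv hiv pz49 (by decide +kernel)
theorem pz51 : PZ T (atm 2 (T.fP gs)) EX 51 := PZ.of_def hiv (d := [4, 3, 2, 3, 2, 3, 2, 3, 4, 3, 3, 2, 1, 4, 1, 4, 1, 4, 1, 2]) (AllP.cons pz4 (AllP.cons pz3 (AllP.cons pz2 (AllP.cons pz3 (AllP.cons pz2 (AllP.cons pz3 (AllP.cons pz2 (AllP.cons pz3 (AllP.cons pz4 (AllP.cons pz3 (AllP.cons pz3 (AllP.cons pz2 (AllP.cons pz1 (AllP.cons pz4 (AllP.cons pz1 (AllP.cons pz4 (AllP.cons pz1 (AllP.cons pz4 (AllP.cons pz1 (AllP.cons pz2 (AllP.nil))))))))))))))))))))) (hT.one rel23) (by decide +kernel)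
theorem pz52 : PZ T (atm 2 (T.fP gs)) EX 52 := PZ.of_inv hiv pz51 (by decide +kernel)
theorem pz53 : PZ T (atm 2 (T.fP gs)) EX 53 := PZ.of_def hiv (d := [3, 4]) (AllP.cons pz3 (AllP.cons pz4 (AllP.nil))) (hT.one rel24) (by decide +kernel)
theorem pz54 : PZ T (atm 2 (T.fP gs)) EX 54 := PZ.of_inv hiv pz53 (by decide +kernel)
theorem hPZ : AllP (PZ T (atm 2 (T.fP gs)) EX) L :=
  show AllP (PZ T (atm 2 (T.fP gs)) EX) [1, 2, 3, 4, 5, 6, 7, 8, 9, 10, 11, 12, 13, 14, 15, 16, 17, 18, 19, 20, 21, 22, 23, 24, 25, 26, 27, 28, 29, 30, 31, 32, 33, 34, 35, 36, 37, 38, 39, 40, 41, 42, 43, 44, 45, 46, 47, 48, 49, 50, 51, 52, 53, 54] from AllP.cons pz1 (AllP.cons pz2 (AllP.cons pz3 (AllP.cons pz4 (AllP.cons pz5 (AllP.cons pz6 (AllP.cons pz7 (AllP.cons pz8 (AllP.cons pz9 (AllP.cons pz10 (AllP.cons pz11 (AllP.cons pz12 (AllP.cons pz13 (AllP.cons pz14 (AllP.cons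 pz15 (AllP.cons pz16 (AllP.cons pz17 (AllP.cons pz18 (AllP.cons pz19 (AllP.cons pz20 (AllP.cons pz21 (AllP.cons pz22 (AllP.cons pz23 (AllP.cons pz24 (AllP.cons pz25 (AllP.cons pz26 (AllP.cons pz27 (AllP.cons pz28 (AllP.cons pz29 (AllP.cons pz30 (AllP.cons pz31 (AllP.cons pz32 (AllP.cons pz33 (AllP.cons pz34 (AllP.cons pz35 (AllP.cons pz36 (AllP.cons pz37 (AllP.cons pz38 (AllP.cons pz39 (AllP.cons pz40 (AllP.cons pz41 (AllP.cons pz42 (AllP.cons pz43 (AllP.cons pz44 (AllP.cons pz45 (AllP.cons pz46 (AllP.cons pz47 (AllP.cons pz48 (AllP.cons pz49 (AllP.cons pz50 (AllP.cons pz51 (AllP.cons pz52 (AllP.cons pz53 (AllP.cons pz54 (AllP.nil))))))))))))))))))))))))))))))))))))))))))))))))))))))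

theorem hrel : ∀ l ∈ RL, ev (atm 2 (T.fP gs)) l = 1 :=
  relAll_sound hiv (W := [[1, 1], [2, 2, 2], [2, 1, 2, 1, 2, 1, 2, 1, 2, 1, 2, 1, 2, 1, 2, 1, 2, 1, 2, 1, 2, 1, 2, 1, 2, 1, 2, 1, 2, 1, 2, 1, 2, 1, 2, 1, 2, 1, 2, 1, 2, 1, 2, 1, 2, 1], [2, 1, 4, 3, 2, 1, 4, 3, 2, 1, 4, 3, 2, 1, 4, 3, 2, 1, 4, 3, 2, 1, 4, 3, 2, 1, 4, 3, 2, 1, 4, 3, 2, 1, 4, 3, 2, 1, 4, 3, 2, 1, 4, 3, 2, 1, 4, 3], [2, 1, 2, 1, 4, 3, 4, 3, 2, 1, 2, 1, 4, 3, 4, 3, 2, 1, 2, 1, 4, 3, 4, 3, 2, 1, 2, 1, 4, 3, 4, 3, 2, 1, 2, 1, 4, 3, 4, 3], [4, 1, 2, 1, 4, 1, 2, 1, 4, 1, 2, 1, 2, 1, 4, 1, 2, 1, 4, 1, 2, 1, 4, 1, 2, 1, 2, 1, 4, 1, 2, 1, 4, 1, 2, 1, 4, 1, 2, 1, 2, 1, 4, 1, 2, 1, 4, 1, 2, 1, 4, 1, 2, 1, 2, 1], [4, 1, 4, 1, 2, 1, 4, 1, 4, 1, 2, 1, 4, 1, 4, 1, 2, 1, 4, 1, 2, 1, 2, 1, 4, 1, 2, 1, 2, 1, 4, 1, 2, 1, 2, 1]]) (rules := [⟨[1, 1], [], 0, true⟩, ⟨[2, 2, 2], [], 1, true⟩, ⟨[2,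 1, 2, 1, 2, 1, 2, 1, 2, 1, 2, 1, 2, 1, 2, 1, 2, 1, 2, 1, 2, 1, 2, 1, 2, 1, 2, 1, 2, 1, 2, 1, 2, 1, 2, 1, 2, 1, 2, 1, 2, 1, 2, 1, 2, 1], [], 2, true⟩, ⟨[2, 1, 4, 3, 2, 1, 4, 3, 2, 1, 4, 3, 2, 1, 4, 3, 2, 1, 4, 3, 2, 1, 4, 3, 2, 1, 4, 3, 2, 1, 4, 3, 2, 1, 4, 3, 2, 1, 4, 3, 2, 1, 4, 3, 2, 1, 4, 3], [], 3, true⟩, ⟨[2, 1, 2, 1, 4, 3, 4, 3, 2, 1, 2, 1, 4, 3, 4, 3, 2, 1, 2, 1, 4, 3, 4, 3, 2, 1, 2, 1, 4, 3, 4, 3, 2, 1, 2, 1, 4, 3, 4, 3], [], 4, true⟩, ⟨[4, 1, 2, 1, 4, 1, 2, 1, 4, 1, 2, 1, 2, 1, 4, 1, 2, 1, 4, 1, 2, 1, 4, 1, 2, 1, 2, 1, 4, 1, 2, 1, 4, 1, 2, 1, 4, 1, 2, 1, 2, 1, 4, 1, 2, 1, 4, 1, 2, 1, 4, 1, 2, 1, 2, 1], [], 5, true⟩, ⟨[4, 1, 4, 1, 2, 1, 4, 1, 4, 1, 2, 1, 4, 1, 4, 1, 2, 1, 4, 1, 2, 1, 2, 1, 4, 1, 2, 1, 2, 1, 4, 1, 2, 1, 2, 1], [], 6, true⟩]) hPZ (AllP.cons (hT.one rel25) (AllP.cons (hT.one rel26) (AllP.cons (hT.one rel27) (AllP.cons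 (hT.one rel28) (AllP.cons (hT.one rel29) (AllP.cons (hT.one rel30) (AllP.cons (hT.one rel31) (AllP.nil)))))))) (by decide +kernel)

section
variable {G : Type} [Group G] {a : ℕ → G} (hi : IvOk (2 * 0) a) (hR : ∀ r ∈ RL, ev a r = 1)
  {H : Subgroup G} (hb : ∀ z ∈ base, letV a EX z ∈ H)
include hi hR hb

theorem let1 : LetOk H (letV a EX) T L 1 :=
  LetOk.of hT tl1 cov1 (AllP.cons (Just.rot hT hi hR rot1_1 rot1_1r) (AllP.nil))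
theorem let2 : LetOk H (letV a EX) T L 2 :=
  LetOk.of hT tl2 cov2 (AllP.cons (Just.rot hT hi hR rot2_1 rot2_1r) (AllP.cons (Just.rot hT hi hR rot2_2 rot2_2r) (AllP.cons (Just.rot hT hi hR rot2_3 rot2_3r) (AllP.cons (Just.rot hT hi hR rot2_4 rot2_4r) (AllP.cons (Just.rot hT hi hR rot2_5 rot2_5r) (AllP.cons (Just.rot hT hi hR rot2_6 rot2_6r) (AllP.cons (Just.rot hT hi hR rot2_7 rot2_7r) (AllP.cons (Just.rot hT hi hR rot2_8 rot2_8r) (AllP.cons (Just.rot hT hi hR rot2_9 rot2_9r) (AllP.cons (Just.rot hT hi hR rot2_10 rot2_10r) (AllP.nil)))))))))))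
theorem let3 : LetOk H (letV a EX) T L 3 :=
  LetOk.of' hT tl3 cov3 (AllP.cons (Just.rot hT hi hR rot3_1 rot3_1r) (AllP.cons (Just.rot hT hi hR rot3_2 rot3_2r) (AllP.cons (Just.rot hT hi hR rot3_3 rot3_3r) (AllP.nil))))
theorem let4 : LetOk H (letV a EX) T L 4 :=
  LetOk.of hT tl4 cov4 (AllP.cons (Just.rot hT hi hR rot4_1 rot4_1r) (AllP.cons (Just.rot hT hi hR rot4_2 rot4_2r) (AllP.cons (Just.rot hT hi hR rot4_3 rot4_3r) (AllP.cons (Just.rot hT hi hR rot4_4 rot4_4r) (AllP.cons (Just.rot hT hi hR rot4_5 rot4_5r) (AllP.cons (Just.rot hT hi hR rot4_6 rot4_6r) (AllP.cons (Just.rot hT hi hR rot4_7 rot4_7r) (AllP.cons (Just.rot hT hi hR rot4_8 rot4_8r) (AllP.cons (Just.rot hT hi hR rot4_9 rot4_9r) (AllP.cons (Just.rot hT hi hR rot4_10 rot4_10r) (AllP.nil)))))))))))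
theorem let5 : LetOk H (letV a EX) T L 5 :=
  LetOk.of' hT tl5 cov5 (AllP.cons (Just.base (hb 5 (by decide))) (AllP.nil))
theorem let6 : LetOk H (letV a EX) T L 6 :=
  LetOk.of' hT tl6 cov6 (AllP.cons (Just.rot hT hi hR rot6_1 rot6_1r) (AllP.nil))
theorem let7 : LetOk H (letV a EX) T L 7 :=
  LetOk.of' hT tl7 cov7 (AllP.cons (Just.base (hb 7 (by decide))) (AllP.nil))
theorem let8 : LetOk H (letV a EX) T L 8 :=
  LetOk.of' hT tl8 cov8 (AllP.cons (Just.rot hT hi hR rot8_1 rot8_1r) (AllP.nil))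
theorem let9 : LetOk H (letV a EX) T L 9 :=
  LetOk.of' hT tl9 cov9 (AllP.cons (Just.base (hb 9 (by decide))) (AllP.nil))
theorem let10 : LetOk H (letV a EX) T L 10 :=
  LetOk.of' hT tl10 cov10 (AllP.cons (Just.rot hT hi hR rot10_1 rot10_1r) (AllP.nil))
theorem let11 : LetOk H (letV a EX) T L 11 :=
  LetOk.of' hT tl11 cov11 (AllP.cons (Just.base (hb 11 (by decide))) (AllP.nil))
theorem let12 : LetOk H (letV a EX) T L 12 :=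
  LetOk.of' hT tl12 cov12 (AllP.cons (Just.rot hT hi hR rot12_1 rot12_1r) (AllP.nil))
theorem let13 : LetOk H (letV a EX) T L 13 :=
  LetOk.of' hT tl13 cov13 (AllP.cons (Just.base (hb 13 (by decide))) (AllP.nil))
theorem let14 : LetOk H (letV a EX) T L 14 :=
  LetOk.of' hT tl14 cov14 (AllP.cons (Just.rot hT hi hR rot14_1 rot14_1r) (AllP.nil))
theorem let15 : LetOk H (letV a EX) T L 15 :=
  LetOk.of' hT tl15 cov15 (AllP.cons (Just.base (hb 15 (by decide))) (AllP.nil))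
theorem let16 : LetOk H (letV a EX) T L 16 :=
  LetOk.of' hT tl16 cov16 (AllP.cons (Just.rot hT hi hR rot16_1 rot16_1r) (AllP.nil))
theorem let17 : LetOk H (letV a EX) T L 17 :=
  LetOk.of' hT tl17 cov17 (AllP.cons (Just.base (hb 17 (by decide))) (AllP.nil))
theorem let18 : LetOk H (letV a EX) T L 18 :=
  LetOk.of' hT tl18 cov18 (AllP.cons (Just.rot hT hi hR rot18_1 rot18_1r) (AllP.nil))
theorem let19 : LetOk H (letV a EX) T L 19 :=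
  LetOk.of' hT tl19 cov19 (AllP.nil)
theorem let20 : LetOk H (letV a EX) T L 20 :=
  LetOk.of' hT tl20 cov20 (AllP.nil)
theorem let21 : LetOk H (letV a EX) T L 21 :=
  LetOk.of' hT tl21 cov21 (AllP.nil)
theorem let22 : LetOk H (letV a EX) T L 22 :=
  LetOk.of' hT tl22 cov22 (AllP.nil)
theorem let23 : LetOk H (letV a EX) T L 23 :=
  LetOk.of' hT tl23 cov23 (AllP.nil)
theorem let24 : LetOk H (letV a EX) T L 24 :=
  LetOk.of' hT tl24 cov24 (AllP.nil)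
theorem let25 : LetOk H (letV a EX) T L 25 :=
  LetOk.of' hT tl25 cov25 (AllP.nil)
theorem let26 : LetOk H (letV a EX) T L 26 :=
  LetOk.of' hT tl26 cov26 (AllP.nil)
theorem let27 : LetOk H (letV a EX) T L 27 :=
  LetOk.of' hT tl27 cov27 (AllP.nil)
theorem let28 : LetOk H (letV a EX) T L 28 :=
  LetOk.of' hT tl28 cov28 (AllP.nil)
theorem let29 : LetOk H (letV a EX) T L 29 :=
  LetOk.of' hT tl29 cov29 (AllP.nil)
theorem let30 : LetOk H (letV a EX) T L 30 :=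
  LetOk.of' hT tl30 cov30 (AllP.nil)
theorem let31 : LetOk H (letV a EX) T L 31 :=
  LetOk.of' hT tl31 cov31 (AllP.nil)
theorem let32 : LetOk H (letV a EX) T L 32 :=
  LetOk.of' hT tl32 cov32 (AllP.nil)
theorem let33 : LetOk H (letV a EX) T L 33 :=
  LetOk.of' hT tl33 cov33 (AllP.nil)
theorem let34 : LetOk H (letV a EX) T L 34 :=
  LetOk.of' hT tl34 cov34 (AllP.nil)
theorem let35 : LetOk H (letV a EX) T L 35 :=
  LetOk.of' hT tl35 cov35 (AllP.nil)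
theorem let36 : LetOk H (letV a EX) T L 36 :=
  LetOk.of' hT tl36 cov36 (AllP.nil)
theorem let37 : LetOk H (letV a EX) T L 37 :=
  LetOk.of' hT tl37 cov37 (AllP.nil)
theorem let38 : LetOk H (letV a EX) T L 38 :=
  LetOk.of' hT tl38 cov38 (AllP.nil)
theorem let39 : LetOk H (letV a EX) T L 39 :=
  LetOk.of' hT tl39 cov39 (AllP.nil)
theorem let40 : LetOk H (letV a EX) T L 40 :=
  LetOk.of' hT tl40 cov40 (AllP.nil)
theorem let41 : LetOk H (letV a EX) T L 41 :=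
  LetOk.of' hT tl41 cov41 (AllP.nil)
theorem let42 : LetOk H (letV a EX) T L 42 :=
  LetOk.of' hT tl42 cov42 (AllP.nil)
theorem let43 : LetOk H (letV a EX) T L 43 :=
  LetOk.of' hT tl43 cov43 (AllP.cons (Just.base (hb 43 (by decide))) (AllP.nil))
theorem let44 : LetOk H (letV a EX) T L 44 :=
  LetOk.of' hT tl44 cov44 (AllP.nil)
theorem let45 : LetOk H (letV a EX) T L 45 :=
  LetOk.of' hT tl45 cov45 (AllP.nil)
theorem let46 : LetOk H (letV a EX) T L 46 :=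
  LetOk.of' hT tl46 cov46 (AllP.nil)
theorem let47 : LetOk H (letV a EX) T L 47 :=
  LetOk.of' hT tl47 cov47 (AllP.nil)
theorem let48 : LetOk H (letV a EX) T L 48 :=
  LetOk.of' hT tl48 cov48 (AllP.nil)
theorem let49 : LetOk H (letV a EX) T L 49 :=
  LetOk.of' hT tl49 cov49 (AllP.nil)
theorem let50 : LetOk H (letV a EX) T L 50 :=
  LetOk.of' hT tl50 cov50 (AllP.nil)
theorem let51 : LetOk H (letV a EX) T L 51 :=
  LetOk.of' hT tl51 cov51 (AllP.nil)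
theorem let52 : LetOk H (letV a EX) T L 52 :=
  LetOk.of' hT tl52 cov52 (AllP.nil)
theorem let53 : LetOk H (letV a EX) T L 53 :=
  LetOk.of' hT tl53 cov53 (AllP.cons (Just.base (hb 53 (by decide))) (AllP.nil))
theorem let54 : LetOk H (letV a EX) T L 54 :=
  LetOk.of' hT tl54 cov54 (AllP.cons (Just.rot hT hi hR rot54_1 rot54_1r) (AllP.nil))
theorem hlet : AllP (LetOk H (letV a EX) T L) L :=
  show AllP (LetOk H (letV a EX) T L) [1, 2, 3, 4, 5, 6, 7, 8, 9, 10, 11, 12, 13, 14, 15, 16, 17, 18, 19, 20, 21, 22, 23, 24, 25, 26, 27, 28, 29, 30, 31, 32, 33, 34, 35, 36, 37, 38, 39, 40, 41, 42, 43, 44, 45, 46, 47, 48, 49, 50, 51, 52, 53, 54] from AllP.cons (let1 hi hR hb) (AllP.cons (let2 hi hR hb) (AllP.cons (let3 hi hR hb) (AllP.cons (let4 hi hR hb) (AllP.cons (let5 hi hR hb) (AllP.cons (let6 hi hR hb) (AllP.cons (let7 hi hR hb) (AllP.cons (let8 hi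 hR hb) (AllP.cons (let9 hi hR hb) (AllP.cons (let10 hi hR hb) (AllP.cons (let11 hi hR hb) (AllP.cons (let12 hi hR hb) (AllP.cons (let13 hi hR hb) (AllP.cons (let14 hi hR hb) (AllP.cons (let15 hi hR hb) (AllP.cons (let16 hi hR hb) (AllP.cons (let17 hi hR hb) (AllP.cons (let18 hi hR hb) (AllP.cons (let19 hi hR hb) (AllP.cons (let20 hi hR hb) (AllP.cons (let21 hi hR hb) (AllP.cons (let22 hi hR hb) (AllP.cons (let23 hi hR hb) (AllP.cons (let24 hi hR hb) (AllP.cons (let25 hi hR hb) (AllP.cons (let26 hi hR hb) (AllP.cons (let27 hi hR hb) (AllP.cons (let28 hi hR hb) (AllP.cons (let29 hi hR hb) (AllP.cons (let30 hi hR hb) (AllP.cons (let31 hi hR hb) (AllP.cons (let32 hi hR hb) (AllP.cons (let33 hi hR hb) (AllP.cons (let34 hi hR hb) (AllP.cons (let35 hi hR hb) (AllP.cons (let36 hi hR hb) (AllP.cons (let37 hi hR hb) (AllP.cons (let38 hi hR hb) (AllP.cons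 (let39 hi hR hb) (AllP.cons (let40 hi hR hb) (AllP.cons (let41 hi hR hb) (AllP.cons (let42 hi hR hb) (AllP.cons (let43 hi hR hb) (AllP.cons (let44 hi hR hb) (AllP.cons (let45 hi hR hb) (AllP.cons (let46 hi hR hb) (AllP.cons (let47 hi hR hb) (AllP.cons (let48 hi hR hb) (AllP.cons (let49 hi hR hb) (AllP.cons (let50 hi hR hb) (AllP.cons (let51 hi hR hb) (AllP.cons (let52 hi hR hb) (AllP.cons (let53 hi hR hb) (AllP.cons (let54 hi hR hb) (AllP.nil))))))))))))))))))))))))))))))))))))))))))))))))))))))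
end

theorem cert : Cert 2 0 RL BW fP 24 :=
  Cert.of hT ⟨hsq, hrel⟩ hPZ (fun _ _ _ hi hR _ hb => hlet hi hR hb) hcov hg (by decide +kernel)

end Cfsg.Agent.Spor.J24
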