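import Cfsg.Agent.Spor.PX7
import Cfsg.Agent.Spor.J4H.X.Main
import Cfsg.Agent.Spor.J4K.Main
import Cfsg.Agent.Spor.J22.Main
import Cfsg.Agent.Spor.J23.Main
import Cfsg.Agent.Spor.J24.Main

set_option autoImplicit false
set_option maxRecDepth 100000

namespace Cfsg.Agent.Spor.J24

def R22 : List (List ℕ) := [[2, 2, 2], [4, 4, 4], [6, 6, 6], [0, 0, 0], [0, 6, 5, 7, 4, 7], [0, 3, 4, 2, 1, 3], [0, 6, 4, 2, 0, 6, 4, 2], [0, 5, 6, 4, 0, 5, 6, 4], [0, 4, 1, 2, 0, 4, 1, 2], [4, 7, 4, 7, 4, 7, 4, 7, 4, 7], [0, 3, 0, 3, 0, 3, 0, 3, 0, 3]]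
def RL0 : List (List ℕ) := [[14], [16], [18], [20], [22], [24], [26], [28], [30], [32], [34], [36], [38], [40], [42], [44], [46], [48, 8], [14], [16], [18], [20], [22], [24], [26], [28], [30], [32], [34], [36], [38], [40], [42], [44], [46], [48, 8], [10, 10, 10], [6, 6, 6], [0, 0, 0], [12, 12, 12], [4, 4, 4], [2, 2, 2], [48, 9, 3, 44, 40, 26, 4, 46, 22, 18, 16, 15, 10, 24, 38], [48, 9, 3, 44, 40, 16, 15, 10, 24, 14, 12, 30, 18, 16, 38], [36, 39, 17, 12, 27, 0, 16, 38, 8, 49, 49, 36, 25, 11, 38, 8], [36, 49, 49, 11, 8, 36, 17, 19, 12, 30, 27, 41, 0, 20, 38, 8], [36, 3, 44, 40, 16, 15, 10, 24, 38, 48, 48, 9, 10, 24, 38, 8], [36, 1, 20, 28, 3, 44, 29, 0, 20, 40, 16, 38, 9, 10, 24, 38, 8], [36, 1, 20, 28, 2, 44, 29, 0, 20, 40, 16, 38, 9, 11, 24, 38, 8], [36, 49, 36, 13, 30, 18, 16, 15, 11, 24, 14, 2, 44, 40, 16, 38, 8], [36,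 49, 36, 49, 36, 12, 30, 18, 16, 38, 48, 48, 9, 11, 24, 38, 8], [36, 49, 36, 11, 24, 14, 5, 46, 22, 18, 27, 2, 44, 40, 16, 38, 8], [36, 49, 36, 49, 36, 13, 30, 18, 16, 38, 48, 48, 9, 10, 24, 38, 8], [14, 17, 19, 31, 12, 15, 25, 11, 14, 17, 19, 23, 47, 5, 15, 25, 10], [14, 17, 19, 31, 13, 15, 25, 11, 14, 17, 19, 23, 47, 4, 15, 25, 10], [36, 49, 36, 49, 36, 11, 24, 14, 2, 44, 40, 16, 38, 9, 11, 24, 38, 8], [48, 9, 1, 20, 28, 2, 44, 29, 0, 20, 28, 3, 44, 40, 16, 15, 10, 24, 38], [26, 19, 31, 13, 42, 23, 35, 7, 43, 31, 13, 42, 23, 35, 7, 27, 41, 21, 0], [26, 19, 23, 35, 6, 43, 31, 12, 42, 23, 35, 6, 43, 31, 12, 27, 41, 21, 1], [14, 17, 19, 4, 43, 12, 30, 42, 23, 35, 7, 34, 22, 27, 41, 2, 44, 15, 10, 24], [26, 19, 31, 13, 42, 23, 47, 5, 32, 35, 7, 33, 47, 4, 43, 31, 12, 27, 41, 21, 0], [26, 19, 31, 13, 42, 23, 47, 5, 32, 35,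 6, 33, 47, 4, 43, 31, 12, 27, 41, 21, 1], [26, 19, 23, 47, 5, 27, 41, 45, 2, 29, 21, 1, 28, 45, 2, 29, 21, 0, 28, 45, 3], [26, 19, 23, 35, 6, 33, 47, 5, 32, 35, 6, 33, 47, 4, 32, 35, 7, 27, 41, 21, 1], [26, 19, 23, 35, 6, 33, 47, 5, 32, 35, 7, 33, 47, 4, 32, 35, 7, 27, 41, 21, 0], [36, 49, 36, 11, 24, 14, 2, 44, 29, 1, 20, 28, 3, 44, 29, 0, 20, 40, 16, 38, 8], [26, 19, 23, 47, 4, 27, 41, 45, 2, 29, 21, 1, 28, 45, 3, 29, 21, 0, 28, 45, 3], [42, 23, 47, 5, 32, 35, 6, 33, 47, 4, 32, 35, 7, 43, 31, 13, 42, 23, 35, 7, 43, 31, 13], [48, 48, 48, 48, 48, 48, 48, 48, 48, 48, 48, 48, 48, 48, 48, 48, 48, 48, 48, 48, 48, 48, 48], [42, 23, 35, 6, 43, 31, 12, 42, 23, 35, 6, 33, 47, 5, 32, 35, 7, 33, 47, 4, 43, 31, 12], [36, 39, 41, 2, 29, 0, 40, 26, 19, 47, 5, 46, 32, 35, 7, 34, 43, 12, 18, 15, 10, 38, 8, 49], [36, 10, 24, 14, 0, 20,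 28, 2, 44, 40, 26, 12, 30, 42, 4, 46, 32, 6, 34, 22, 18, 16, 38, 8], [14, 41, 45, 3, 44, 40, 26, 19, 23, 6, 34, 43, 31, 13, 30, 42, 47, 5, 22, 18, 15, 25, 11, 24], [36, 49, 17, 45, 2, 44, 29, 21, 0, 20, 26, 23, 5, 32, 7, 22, 43, 31, 12, 30, 16, 15, 25, 10, 24, 8], [36, 49, 36, 1, 20, 28, 3, 44, 40, 16, 38, 8, 36, 49, 36, 2, 44, 40, 16, 38, 48, 9, 10, 24, 38, 8], [36, 2, 44, 29, 0, 20, 28, 3, 44, 40, 16, 38, 48, 48, 9, 11, 24, 14, 12, 30, 18, 16, 15, 10, 24, 38, 8], [26, 19, 23, 47, 5, 32, 35, 7, 33, 47, 4, 27, 41, 21, 1, 26, 19, 23, 47, 5, 32, 35, 7, 33, 47, 4, 27, 41, 21, 1], [26, 19, 23, 35, 6, 33, 47, 4, 27, 41, 45, 2, 29, 21, 0, 26, 19, 23, 35, 6, 33, 47, 4, 27, 41, 45, 2, 29, 21, 0], [14, 17, 19, 31, 13, 42, 23, 35, 7, 43, 31, 12, 15, 25, 11, 14, 17, 19, 31, 13, 42, 23, 35, 7, 43, 31, 12, 15, 25, 11], [32, 6, 33,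 47, 5, 46, 32, 6, 33, 47, 5, 46, 32, 6, 33, 47, 5, 46, 32, 6, 33, 47, 5, 46, 32, 6, 33, 47, 5, 46], [28, 2, 29, 21, 1, 20, 28, 2, 29, 21, 1, 20, 28, 2, 29, 21, 1, 20, 28, 2, 29, 21, 1, 20, 28, 2, 29, 21, 1, 20], [26, 19, 23, 47, 5, 27, 41, 21, 1, 28, 45, 3, 29, 21, 0, 26, 19, 23, 47, 5, 27, 41, 21, 1, 28, 45, 3, 29, 21, 0], [32, 35, 7, 33, 4, 46, 32, 35, 7, 33, 4, 46, 32, 35, 7, 33, 4, 46, 32, 35, 7, 33, 4, 46, 32, 35, 7, 33, 4, 46], [28, 45, 3, 29, 0, 20, 28, 45, 3, 29, 0, 20, 28, 45, 3, 29, 0, 20, 28, 45, 3, 29, 0, 20, 28, 45, 3, 29, 0, 20], [48, 9, 11, 24, 14, 2, 44, 29, 0, 20, 40, 26, 13, 30, 42, 6, 34, 33, 4, 46, 32, 7, 34, 22, 43, 12, 30, 18, 16, 38], [36, 49, 36, 11, 24, 14, 13, 30, 42, 5, 46, 32, 7, 34, 22, 43, 12, 30, 42, 6, 34, 33, 4, 46, 22, 18, 16, 15, 10, 24, 38, 8]]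

theorem b22 : Bound 4 0 R22 (462 * 960) :=
  Bound.extra (XL := J4H.X.XL) (J22.cert.bound' J4K.cert.bound_nil (H := [([], 0, true), ([], 1, true), ([], 2, true), ([], 3, true), ([], 4, true), ([], 5, true), ([], 6, true), ([], 7, true), ([], 8, true), ([], 9, true), ([], 10, true), ([], 0, true), ([], 12, true), ([], 13, true), ([], 14, true), ([], 15, true), ([], 16, true)]) (H' := [([], 0, true), ([], 12, true), ([], 13, true), ([], 14, true), ([], 15, true), ([], 16, true)])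
    (by decide +kernel) (by decide +kernel))
    fun _ _ _ hf => rel_lt (J4H.X.trans (hf.restrict (H := [([], 0, true), ([], 1, true), ([], 3, true), ([], 5, true), ([], 8, true), ([], 10, true)]) (by decide +kernel))) (by decide +kernel)

theorem b23 : Bound 7 0 J23.RL (23 * (462 * 960)) :=
  J23.cert.bound b22 (H := [([], 1, true), ([], 3, true), ([], 4, true), ([], 5, true), ([], 12, true), ([], 14, true), ([], 21, true), ([], 22, true), ([], 23, true), ([], 27, true), ([], 30, true)]) (by decide +kernel)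

theorem bound : Bound 2 0 RL 244823040 :=
  show Bound 2 0 RL (24 * (23 * (462 * 960))) from
  cert.bound (b23.elim (N := 25) (RL0 := RL0) (WD := [[0], [2], [4], [6], [8], [10], [12], [], [], [], [], [], [], [], [], [], [], [], [], [], [], [], [], [], [9]]) (H := [([], 36, true), ([], 41, true), ([], 39, true), ([], 40, true), ([], 37, true), ([], 38, true), ([11], 53, false), ([11, 5], 42, false), ([13, 11], 43, false), ([], 58, false), ([3], 72, false), ([], 61, false), ([], 63, false), ([1], 48, false), ([2, 1], 66, true), ([3], 46, false), ([5, 6], 67, true), ([12], 44, true), ([11, 2, 1], 56, true), ([10], 71, true), ([2], 70, true), ([1], 77, true), ([], 76, false), ([1, 2], 81, false), ([9], 50, true), ([10, 13], 78, false), ([9, 9, 11, 2], 84, true), ([], 79, false), ([8, 1], 74, false), ([9, 11, 5], 85, true),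 ([], 80, false), ([2], 75, true), ([], 68, false)]) (by decide +kernel)) (H := [([1, 3], 1, true), ([2, 1, 3], 0, true), ([2, 1, 2, 1, 3], 0, true), ([3, 1, 3, 1, 2, 1, 3], 0, true), ([2, 1, 2, 1, 2, 1, 3], 0, true), ([3, 1, 3], 0, true), ([1, 2, 1, 3], 1, true), ([1, 3, 1, 2, 1, 3], 1, true), ([3, 1, 2, 1, 2, 1, 3], 0, true), ([1, 2, 1, 2, 1, 2, 1, 3], 1, true), ([2, 1, 2, 1, 2, 1, 2, 1, 3], 0, true), ([], 0, true), ([3], 0, true), ([3, 1, 2, 1, 3], 0, true), ([1, 2, 1, 2, 1, 3], 1, true), ([2, 1, 3, 1, 2, 1, 3], 0, true), ([3, 1, 2, 1, 2, 1, 2, 1, 3], 0, true), ([1], 1, true), ([1, 3], 1, true), ([2, 1, 3], 0, true), ([2, 1, 2, 1, 3], 0, true), ([3, 1, 3, 1, 2, 1, 3], 0, true), ([2, 1, 2, 1, 2, 1, 3], 0, true), ([3, 1, 3], 0, true), ([1, 2, 1, 3], 1, true), ([1, 3, 1, 2, 1, 3], 1, true), ([3, 1, 2, 1, 2, 1, 3], 0, true),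 ([1, 2, 1, 2, 1, 2, 1, 3], 1, true), ([2, 1, 2, 1, 2, 1, 2, 1, 3], 0, true), ([], 0, true), ([3], 0, true), ([3, 1, 2, 1, 3], 0, true), ([1, 2, 1, 2, 1, 3], 1, true), ([2, 1, 3, 1, 2, 1, 3], 0, true), ([3, 1, 2, 1, 2, 1, 2, 1, 3], 0, true), ([1], 1, true), ([1, 3, 1, 3], 1, true), ([1, 2, 1, 2, 1, 2, 1, 2, 1, 3], 1, true), ([1, 3, 1, 3, 1, 2, 1, 3], 1, true), ([1, 3, 1, 2, 1, 2, 1, 3], 1, true), ([1, 3, 1, 2, 1, 2, 1, 2, 1, 3], 1, true), ([1, 2, 1, 3, 1, 2, 1, 3], 1, true), ([2, 1, 2, 1, 3, 1, 2, 1, 2, 1, 3, 1], 6, true), ([0, 2, 0, 2, 0, 3, 0, 2, 0, 2, 0, 3, 0, 2, 0, 2, 0, 3], 6, true), ([3, 1, 1], 4, true), ([1, 1], 4, false), ([0, 2, 0, 2, 0, 3, 0, 2, 0, 2, 0, 3, 0, 2, 1], 6, true), ([0, 2, 0, 2, 0, 3, 0, 2, 1], 6, true), ([0, 2, 1], 6, true), ([0, 2, 0, 2, 0, 3, 0, 2, 0, 2, 0, 3, 0, 2, 0, 2, 1], 6, true), ([2, 1,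 2, 1, 3, 1, 2, 1, 2, 1, 1], 6, true), ([0, 2, 0, 2, 0, 3, 0, 2, 0, 2, 1], 6, true), ([2, 1, 2, 1, 3, 1, 2, 1, 2, 1, 3, 1, 2, 1, 2, 1, 1], 6, true), ([2, 1, 2, 1, 3, 1, 2, 1, 3, 1, 3], 6, false), ([2, 1, 2, 1, 3, 1, 2, 1, 2, 1, 3, 1, 2, 1, 3, 1, 3], 6, false), ([2, 1, 2, 1, 1], 6, true), ([2, 1, 2, 1, 3, 1], 6, true), ([2, 1, 2, 1, 3, 1, 2, 1, 2, 1, 3, 1, 3, 1, 2, 1, 3], 6, false), ([0, 2, 0, 2, 0, 3, 3, 1, 2, 1, 3], 6, false), ([3, 3, 1, 3], 4, true), ([2, 1, 2, 1, 3, 1, 3, 1, 2, 1, 3], 6, false), ([3, 1, 2, 1, 3], 6, false), ([2, 1, 2, 1, 3, 1, 2, 1, 2, 1, 3, 1, 2, 1, 3, 1, 2, 1, 3], 6, false), ([0, 2, 0, 2, 0, 3, 0, 2, 0, 2, 0, 3, 3, 1, 2, 1, 3], 6, false), ([2, 1, 2, 1, 3, 1, 2, 1, 2, 1, 3, 1, 2, 1, 2, 1, 3, 1, 3, 1, 2, 1, 3], 6, false), ([0, 2, 0, 2, 1], 6, true), ([2, 1, 2, 1, 3, 1, 2, 1, 3, 1, 2, 1, 3], 6, false),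 ([3, 1, 2, 1, 2, 1, 3], 6, false), ([], 2, true), ([2, 1, 3, 1, 2, 1, 2, 1, 3], 6, false), ([1, 3, 1], 3, true), ([1], 2, true), ([3, 1, 3, 3, 1, 3], 4, true), ([1, 1], 3, false), ([2, 1, 3, 1, 2, 1, 1], 5, true), ([0, 2, 1], 5, true), ([3, 1, 2, 1, 3], 5, false), ([0, 2, 0, 2, 0, 3, 3, 1, 2, 1, 3], 5, false), ([3, 1, 3], 5, false), ([3, 1, 3, 3, 1, 2, 1, 2, 1, 2, 1, 3], 4, true), ([3, 1, 3, 3, 1, 3, 1, 2, 1, 3], 4, true), ([2, 1, 3, 1, 3, 1, 2, 1, 3], 5, false), ([3, 3, 1, 2, 1, 2, 1, 2, 1, 3], 4, true), ([3, 3, 1, 3, 1, 2, 1, 3], 4, true), ([0, 2, 0, 2, 0, 3], 5, true), ([2, 1, 1], 5, true)]) (by decide +kernel)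

end Cfsg.Agent.Spor.J24
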