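import Cfsg.Agent.Spor.Chk

set_option autoImplicit false
set_option maxRecDepth 100000000
set_option Elab.async false
noncomputable section

namespace Cfsg.Agent.Spor.J24

def m0_0 : Nat := nat_lit 0xf
def m0_1 : Nat := nat_lit 0xf
def m0_2 : Nat := nat_lit 0xf00
def m0_3 : Nat := nat_lit 0x300033
def m0_4 : Nat := nat_lit 0x50000
def m0_5 : Nat := nat_lit 0xf
def m0_6 : Nat := nat_lit 0xf
def n0 : Net := Net.cons 16 m0_0 (Net.cons 8 m0_1 (Net.cons 4 m0_2 (Net.cons 2 m0_3 (Net.cons 1 m0_4 (Net.cons 8 m0_5 (Net.cons 16 m0_6 (Net.nil)))))))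

def m1_0 : Nat := nat_lit 0x51
def m1_1 : Nat := nat_lit 0x10405
def m1_2 : Nat := nat_lit 0x1112
def m1_3 : Nat := nat_lit 0x105114
def m1_4 : Nat := nat_lit 0x1
def m1_5 : Nat := nat_lit 0x802
def m1_6 : Nat := nat_lit 0xc
def n1 : Net := Net.cons 8 m1_0 (Net.cons 4 m1_1 (Net.cons 2 m1_2 (Net.cons 1 m1_3 (Net.cons 2 m1_4 (Net.cons 4 m1_5 (Net.cons 8 m1_6 (Net.nil)))))))

def m2_0 : Nat := nat_lit 0x3c2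
def m2_1 : Nat := nat_lit 0x110048
def m2_2 : Nat := nat_lit 0x1060102
def m2_3 : Nat := nat_lit 0x212110
def m2_4 : Nat := nat_lit 0x1010410
def m2_5 : Nat := nat_lit 0x100
def m2_6 : Nat := nat_lit 0x60102
def m2_7 : Nat := nat_lit 0x110060
def m2_8 : Nat := nat_lit 0x342
def n2 : Net := Net.cons 16 m2_0 (Net.cons 8 m2_1 (Net.cons 4 m2_2 (Net.cons 2 m2_3 (Net.cons 1 m2_4 (Net.cons 2 m2_5 (Net.cons 4 m2_6 (Net.cons 8 m2_7 (Net.cons 16 m2_8 (Net.nil)))))))))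

def m3_0 : Nat := nat_lit 0x1a40
def m3_1 : Nat := nat_lit 0x820080
def m3_2 : Nat := nat_lit 0x40100
def m3_3 : Nat := nat_lit 0x10100022
def m3_4 : Nat := nat_lit 0x40014050
def m3_5 : Nat := nat_lit 0x10021000
def m3_6 : Nat := nat_lit 0x804010a
def m3_7 : Nat := nat_lit 0x820080
def m3_8 : Nat := nat_lit 0x1a44
def n3 : Net := Net.cons 16 m3_0 (Net.cons 8 m3_1 (Net.cons 4 m3_2 (Net.cons 2 m3_3 (Net.cons 1 m3_4 (Net.cons 2 m3_5 (Net.cons 4 m3_6 (Net.cons 8 m3_7 (Net.cons 16 m3_8 (Net.nil)))))))))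

def m4_0 : Nat := nat_lit 0x5087
def m4_1 : Nat := nat_lit 0x5
def m4_2 : Nat := nat_lit 0x10008
def m4_3 : Nat := nat_lit 0x10000030
def m4_4 : Nat := nat_lit 0x40111
def m4_5 : Nat := nat_lit 0x10102
def m4_6 : Nat := nat_lit 0x10003
def m4_7 : Nat := nat_lit 0x40002d
def m4_8 : Nat := nat_lit 0x5087
def n4 : Net := Net.cons 16 m4_0 (Net.cons 8 m4_1 (Net.cons 4 m4_2 (Net.cons 2 m4_3 (Net.cons 1 m4_4 (Net.cons 2 m4_5 (Net.cons 4 m4_6 (Net.cons 8 m4_7 (Net.cons 16 m4_8 (Net.nil)))))))))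

def m5_0 : Nat := nat_lit 0x30
def m5_1 : Nat := nat_lit 0x84
def m5_2 : Nat := nat_lit 0x30400
def m5_3 : Nat := nat_lit 0x110
def m5_4 : Nat := nat_lit 0x140010
def m5_5 : Nat := nat_lit 0x2
def m5_6 : Nat := nat_lit 0x24
def m5_7 : Nat := nat_lit 0x8a
def n5 : Net := Net.cons 16 m5_0 (Net.cons 8 m5_1 (Net.cons 4 m5_2 (Net.cons 2 m5_3 (Net.cons 1 m5_4 (Net.cons 4 m5_5 (Net.cons 8 m5_6 (Net.cons 16 m5_7 (Net.nil))))))))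

def m6_0 : Nat := nat_lit 0x2f
def m6_1 : Nat := nat_lit 0xcc
def m6_2 : Nat := nat_lit 0xe01
def m6_3 : Nat := nat_lit 0x300021
def m6_4 : Nat := nat_lit 0x441144
def m6_5 : Nat := nat_lit 0x20210
def m6_6 : Nat := nat_lit 0x4020a
def m6_7 : Nat := nat_lit 0x32
def m6_8 : Nat := nat_lit 0x4f
def n6 : Net := Net.cons 16 m6_0 (Net.cons 8 m6_1 (Net.cons 4 m6_2 (Net.cons 2 m6_3 (Net.cons 1 m6_4 (Net.cons 2 m6_5 (Net.cons 4 m6_6 (Net.cons 8 m6_7 (Net.cons 16 m6_8 (Net.nil)))))))))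

def m7_0 : Nat := nat_lit 0xc0
def m7_1 : Nat := nat_lit 0x32
def m7_2 : Nat := nat_lit 0x40401
def m7_3 : Nat := nat_lit 0x102000
def m7_4 : Nat := nat_lit 0x410104
def m7_5 : Nat := nat_lit 0x1
def m7_6 : Nat := nat_lit 0x60901
def m7_7 : Nat := nat_lit 0x72
def m7_8 : Nat := nat_lit 0xc0
def n7 : Net := Net.cons 16 m7_0 (Net.cons 8 m7_1 (Net.cons 4 m7_2 (Net.cons 2 m7_3 (Net.cons 1 m7_4 (Net.cons 2 m7_5 (Net.cons 4 m7_6 (Net.cons 8 m7_7 (Net.cons 16 m7_8 (Net.nil)))))))))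

def m8_0 : Nat := nat_lit 0x281
def m8_1 : Nat := nat_lit 0x20095
def m8_2 : Nat := nat_lit 0xa0406
def m8_3 : Nat := nat_lit 0x2021
def m8_4 : Nat := nat_lit 0x100010
def m8_5 : Nat := nat_lit 0x806
def m8_6 : Nat := nat_lit 0x20090
def m8_7 : Nat := nat_lit 0x289
def n8 : Net := Net.cons 16 m8_0 (Net.cons 8 m8_1 (Net.cons 4 m8_2 (Net.cons 2 m8_3 (Net.cons 1 m8_4 (Net.cons 4 m8_5 (Net.cons 8 m8_6 (Net.cons 16 m8_7 (Net.nil))))))))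

def n9 : Net := Net.nil

def n10 : Net := Net.nil

def n11 : Net := Net.nil

def n12 : Net := Net.nil

def n13 : Net := Net.nil

def n14 : Net := Net.nil

def n15 : Net := Net.nil

def n16 : Net := Net.nil

def n17 : Net := Net.nil

def n18 : Net := Net.nil

def n19 : Net := Net.nil

def n20 : Net := Net.nil

def n21 : Net := Net.nil

def n22 : Net := Net.nil

def n23 : Net := Net.nil

def n24 : Net := Net.nil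

def n25 : Net := Net.nil

def m26_0 : Nat := nat_lit 0x4f
def m26_1 : Nat := nat_lit 0x32
def m26_2 : Nat := nat_lit 0x40d0a
def m26_3 : Nat := nat_lit 0x322020
def m26_4 : Nat := nat_lit 0x141114
def m26_5 : Nat := nat_lit 0x11
def m26_6 : Nat := nat_lit 0x101
def m26_7 : Nat := nat_lit 0xcc
def m26_8 : Nat := nat_lit 0x2f
def n26 : Net := Net.cons 16 m26_0 (Net.cons 8 m26_1 (Net.cons 4 m26_2 (Net.cons 2 m26_3 (Net.cons 1 m26_4 (Net.cons 2 m26_5 (Net.cons 4 m26_6 (Net.cons 8 m26_7 (Net.cons 16 m26_8 (Net.nil)))))))))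

def ip1 : List Nat := [0xcf0cca]
def l1 : Let := ⟨0, false, 0xffffff, 0xcf0cca, [0xcf0cca, 0x0]⟩

def ip2 : List Nat := [0xa4a2a5, 0x5c5111, 0xc0082, 0xc20000]
def l2 : Let := ⟨1, false, 0xffffff, 0x105110, [0xeea2a6, 0xde5193]⟩

def ip3 : List Nat := [0xcf0cce, 0x30f335]
def l3 : Let := ⟨0, true, 0xffffff, 0x0, [0xcf0cca, 0x30f335]⟩

def ip4 : List Nat := [0x945192, 0x6ca222, 0xc0084, 0xc20000]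
def l4 : Let := ⟨1, true, 0xffffff, 0x20a224, [0xde5192, 0xeea2a6]⟩

def ip5 : List Nat := []
def l5 : Let := ⟨2, false, 0x1, 0x0, [0x0, 0x0]⟩

def ip6 : List Nat := [0x1]
def l6 : Let := ⟨2, true, 0x1, 0x0, [0x1, 0x0]⟩

def ip7 : List Nat := []
def l7 : Let := ⟨3, false, 0x1, 0x0, [0x0, 0x0]⟩

def ip8 : List Nat := [0x1]
def l8 : Let := ⟨3, true, 0x1, 0x0, [0x1, 0x0]⟩

def ip9 : List Nat := []
def l9 : Let := ⟨4, false, 0x1, 0x0, [0x0, 0x0]⟩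

def ip10 : List Nat := [0x1]
def l10 : Let := ⟨4, true, 0x1, 0x0, [0x1, 0x0]⟩

def ip11 : List Nat := []
def l11 : Let := ⟨5, false, 0x1, 0x0, [0x0, 0x0]⟩

def ip12 : List Nat := [0x1]
def l12 : Let := ⟨5, true, 0x1, 0x0, [0x1, 0x0]⟩

def ip13 : List Nat := []
def l13 : Let := ⟨6, false, 0x1, 0x0, [0x0, 0x0]⟩

def ip14 : List Nat := [0x1]
def l14 : Let := ⟨6, true, 0x1, 0x0, [0x1, 0x0]⟩

def ip15 : List Nat := []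
def l15 : Let := ⟨7, false, 0x1, 0x0, [0x0, 0x0]⟩

def ip16 : List Nat := [0x1]
def l16 : Let := ⟨7, true, 0x1, 0x0, [0x1, 0x0]⟩

def ip17 : List Nat := []
def l17 : Let := ⟨8, false, 0x1, 0x0, [0x0, 0x0]⟩

def ip18 : List Nat := [0x1]
def l18 : Let := ⟨8, true, 0x1, 0x0, [0x1, 0x0]⟩

def ip19 : List Nat := []
def l19 : Let := ⟨9, false, 0x0, 0x0, [0x0, 0x0]⟩

def ip20 : List Nat := []
def l20 : Let := ⟨9, true, 0x0, 0x0, [0x0, 0x0]⟩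

def ip21 : List Nat := []
def l21 : Let := ⟨10, false, 0x0, 0x0, [0x0, 0x0]⟩

def ip22 : List Nat := []
def l22 : Let := ⟨10, true, 0x0, 0x0, [0x0, 0x0]⟩

def ip23 : List Nat := []
def l23 : Let := ⟨11, false, 0x0, 0x0, [0x0, 0x0]⟩

def ip24 : List Nat := []
def l24 : Let := ⟨11, true, 0x0, 0x0, [0x0, 0x0]⟩

def ip25 : List Nat := []
def l25 : Let := ⟨12, false, 0x0, 0x0, [0x0, 0x0]⟩

def ip26 : List Nat := []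
def l26 : Let := ⟨12, true, 0x0, 0x0, [0x0, 0x0]⟩

def ip27 : List Nat := []
def l27 : Let := ⟨13, false, 0x0, 0x0, [0x0, 0x0]⟩

def ip28 : List Nat := []
def l28 : Let := ⟨13, true, 0x0, 0x0, [0x0, 0x0]⟩

def ip29 : List Nat := []
def l29 : Let := ⟨14, false, 0x0, 0x0, [0x0, 0x0]⟩

def ip30 : List Nat := []
def l30 : Let := ⟨14, true, 0x0, 0x0, [0x0, 0x0]⟩

def ip31 : List Nat := []
def l31 : Let := ⟨15, false, 0x0, 0x0, [0x0, 0x0]⟩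

def ip32 : List Nat := []
def l32 : Let := ⟨15, true, 0x0, 0x0, [0x0, 0x0]⟩

def ip33 : List Nat := []
def l33 : Let := ⟨16, false, 0x0, 0x0, [0x0, 0x0]⟩

def ip34 : List Nat := []
def l34 : Let := ⟨16, true, 0x0, 0x0, [0x0, 0x0]⟩

def ip35 : List Nat := []
def l35 : Let := ⟨17, false, 0x0, 0x0, [0x0, 0x0]⟩

def ip36 : List Nat := []
def l36 : Let := ⟨17, true, 0x0, 0x0, [0x0, 0x0]⟩

def ip37 : List Nat := []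
def l37 : Let := ⟨18, false, 0x0, 0x0, [0x0, 0x0]⟩

def ip38 : List Nat := []
def l38 : Let := ⟨18, true, 0x0, 0x0, [0x0, 0x0]⟩

def ip39 : List Nat := []
def l39 : Let := ⟨19, false, 0x0, 0x0, [0x0, 0x0]⟩

def ip40 : List Nat := []
def l40 : Let := ⟨19, true, 0x0, 0x0, [0x0, 0x0]⟩

def ip41 : List Nat := []
def l41 : Let := ⟨20, false, 0x0, 0x0, [0x0, 0x0]⟩

def ip42 : List Nat := []
def l42 : Let := ⟨20, true, 0x0, 0x0, [0x0, 0x0]⟩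

def ip43 : List Nat := []
def l43 : Let := ⟨21, false, 0x1, 0x0, [0x0, 0x0]⟩

def ip44 : List Nat := []
def l44 : Let := ⟨21, true, 0x0, 0x0, [0x0, 0x0]⟩

def ip45 : List Nat := []
def l45 : Let := ⟨22, false, 0x0, 0x0, [0x0, 0x0]⟩

def ip46 : List Nat := []
def l46 : Let := ⟨22, true, 0x0, 0x0, [0x0, 0x0]⟩

def ip47 : List Nat := []
def l47 : Let := ⟨23, false, 0x0, 0x0, [0x0, 0x0]⟩

def ip48 : List Nat := []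
def l48 : Let := ⟨23, true, 0x0, 0x0, [0x0, 0x0]⟩

def ip49 : List Nat := []
def l49 : Let := ⟨24, false, 0x0, 0x0, [0x0, 0x0]⟩

def ip50 : List Nat := []
def l50 : Let := ⟨24, true, 0x0, 0x0, [0x0, 0x0]⟩

def ip51 : List Nat := []
def l51 : Let := ⟨25, false, 0x0, 0x0, [0x0, 0x0]⟩

def ip52 : List Nat := []
def l52 : Let := ⟨25, true, 0x0, 0x0, [0x0, 0x0]⟩

def ip53 : List Nat := []
def l53 : Let := ⟨26, false, 0x1, 0x0, [0x0, 0x0]⟩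

def ip54 : List Nat := [0x1]
def l54 : Let := ⟨26, true, 0x1, 0x0, [0x1, 0x0]⟩

def NT : List Net := [n0, n1, n2, n3, n4, n5, n6, n7, n8, n9, n10, n11, n12, n13, n14, n15, n16, n17, n18, n19, n20, n21, n22, n23, n24, n25, n26]
def LT : List Let := [⟨0, false, 0, 0, []⟩, l1, l2, l3, l4, l5, l6, l7, l8, l9, l10, l11, l12, l13, l14, l15, l16, l17, l18, l19, l20, l21, l22, l23, l24, l25, l26, l27, l28, l29, l30, l31, l32, l33, l34, l35, l36, l37, l38, l39, l40, l41, l42, l43, l44, l45, l46, l47, l48, l49, l50, l51, l52, l53, l54]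
def T : Tab := ⟨NT, LT⟩
def EX : List (List Nat) := [[], [0], [2], [1], [3], [2, 0, 3, 0, 2, 0, 2, 0, 2, 1, 3, 1, 3, 1, 2, 1, 3], [2, 0, 3, 0, 2, 0, 2, 0, 3, 1, 3, 1, 3, 1, 2, 1, 3], [2, 0, 3, 0, 2, 0, 3, 0, 2, 1, 2, 1, 3, 1, 2, 1, 3], [2, 0, 3, 0, 2, 0, 3, 0, 3, 1, 2, 1, 3, 1, 2, 1, 3], [2, 0, 3, 0, 3, 0, 3, 0, 2, 0, 2, 1, 3, 1, 2, 1, 2, 1, 2, 1, 3], [2, 0, 3, 0, 3, 0, 3, 0, 2, 0, 3, 1, 3, 1, 2, 1, 2, 1, 2, 1, 3], [2, 0, 3, 0, 3, 0, 3, 0, 3, 0, 2, 1, 2, 1, 2, 1, 2, 1, 2, 1, 3], [2, 0, 3, 0, 3, 0, 3, 0, 3, 0, 3, 1, 2, 1, 2, 1, 2, 1, 2, 1, 3], [2, 2, 1], [0, 3, 3], [2, 0, 2, 0, 2, 1, 3, 1, 3], [2, 0, 2, 0, 3, 1, 3, 1, 3], [2, 0, 3, 0, 3, 0, 2, 0, 2, 1, 3, 1, 2, 1, 2, 1, 3], [2, 0, 3, 0, 3, 0, 2, 0, 3, 1, 3, 1, 2, 1, 2, 1, 3], [2, 0, 2, 2, 2, 1, 3], [2, 0, 3, 3, 3, 1, 3], [2, 0, 3, 0, 0, 2,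 1, 3], [2, 0, 3, 1, 1, 2, 1, 3], [2, 0, 3, 0, 3, 0, 0, 2, 1, 2, 1, 3], [2, 0, 3, 0, 3, 1, 1, 2, 1, 2, 1, 3], [2, 0, 3, 0, 2, 0, 2, 0, 0, 3, 1, 3, 1, 2, 1, 3], [2, 0, 3, 0, 2, 0, 2, 1, 1, 3, 1, 3, 1, 2, 1, 3], [2, 0, 3, 0, 3, 0, 3, 0, 0, 2, 1, 2, 1, 2, 1, 3], [2, 0, 3, 0, 3, 0, 3, 1, 1, 2, 1, 2, 1, 2, 1, 3], [2, 0, 2, 0, 0, 3, 1, 3], [2, 0, 2, 1, 1, 3, 1, 3], [2, 0, 3, 0, 2, 2, 2, 1, 2, 1, 3], [2, 0, 3, 0, 3, 3, 3, 1, 2, 1, 3], [2, 0, 3, 0, 2, 0, 2, 2, 2, 1, 3, 1, 2, 1, 3], [2, 0, 3, 0, 2, 0, 3, 3, 3, 1, 3, 1, 2, 1, 3], [2, 0, 3, 0, 3, 0, 2, 0, 0, 3, 1, 2, 1, 2, 1, 3], [2, 0, 3, 0, 3, 0, 2, 1, 1, 3, 1, 2, 1, 2, 1, 3], [2, 0, 3, 0, 3, 0, 3, 0, 2, 2, 2, 1, 2, 1, 2, 1, 2, 1, 3], [2, 0, 3, 0, 3, 0, 3, 0, 3, 3, 3, 1, 2, 1, 2, 1, 2, 1, 3], [2, 0, 3, 0, 3, 0, 3, 0, 3, 0, 0, 2, 1, 2, 1, 2, 1, 2,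 1, 3], [2, 0, 3, 0, 3, 0, 3, 0, 3, 1, 1, 2, 1, 2, 1, 2, 1, 2, 1, 3], [0, 0], [1, 1], [2, 0, 0, 3], [2, 1, 1, 3], [2, 0, 3, 0, 2, 0, 0, 3, 1, 2, 1, 3], [2, 0, 3, 0, 2, 1, 1, 3, 1, 2, 1, 3], [2, 0, 3, 0, 3, 0, 2, 2, 2, 1, 2, 1, 2, 1, 3], [2, 0, 3, 0, 3, 0, 3, 3, 3, 1, 2, 1, 2, 1, 3], [2, 0, 3, 0, 2, 0, 3, 0, 0, 2, 1, 3, 1, 2, 1, 3], [2, 0, 3, 0, 2, 0, 3, 1, 1, 2, 1, 3, 1, 2, 1, 3], [2, 0, 3, 0, 3, 0, 3, 0, 2, 0, 0, 3, 1, 2, 1, 2, 1, 2, 1, 3], [2, 0, 3, 0, 3, 0, 3, 0, 2, 1, 1, 3, 1, 2, 1, 2, 1, 2, 1, 3], [0, 2], [3, 1]]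
def RL : List (List Nat) := [[0, 0], [2, 2, 2], [0, 2, 0, 2, 0, 2, 0, 2, 0, 2, 0, 2, 0, 2, 0, 2, 0, 2, 0, 2, 0, 2, 0, 2, 0, 2, 0, 2, 0, 2, 0, 2, 0, 2, 0, 2, 0, 2, 0, 2, 0, 2, 0, 2, 0, 2], [1, 3, 0, 2, 1, 3, 0, 2, 1, 3, 0, 2, 1, 3, 0, 2, 1, 3, 0, 2, 1, 3, 0, 2, 1, 3, 0, 2, 1, 3, 0, 2, 1, 3, 0, 2, 1, 3, 0, 2, 1, 3, 0, 2, 1, 3, 0, 2], [1, 3, 1, 3, 0, 2, 0, 2, 1, 3, 1, 3, 0, 2, 0, 2, 1, 3, 1, 3, 0, 2, 0, 2, 1, 3, 1, 3, 0, 2, 0, 2, 1, 3, 1, 3, 0, 2, 0, 2], [0, 2, 0, 2, 0, 3, 0, 2, 0, 3, 0, 2, 0, 3, 0, 2, 0, 2, 0, 3, 0, 2, 0, 3, 0, 2, 0, 3, 0, 2, 0, 2, 0, 3, 0, 2, 0, 3, 0, 2, 0, 3, 0, 2, 0, 2, 0, 3, 0, 2, 0, 3, 0, 2, 0, 3], [0, 2, 0, 2, 0, 3, 0, 2, 0, 2, 0, 3, 0, 2, 0, 2, 0, 3, 0, 2, 0, 3, 0, 3, 0, 2, 0, 3, 0, 3, 0, 2, 0, 3, 0, 3]]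
def XL : List (List Nat) := []
def BW : List (List Nat) := [[2, 0, 3, 0, 2, 0, 2, 0, 2, 1, 3, 1, 3, 1, 2, 1, 3], [2, 0, 3, 0, 2, 0, 3, 0, 2, 1, 2, 1, 3, 1, 2, 1, 3], [2, 0, 3, 0, 3, 0, 3, 0, 2, 0, 2, 1, 3, 1, 2, 1, 2, 1, 2, 1, 3], [2, 0, 3, 0, 3, 0, 3, 0, 3, 0, 2, 1, 2, 1, 2, 1, 2, 1, 2, 1, 3], [2, 2, 1], [2, 0, 2, 0, 2, 1, 3, 1, 3], [2, 0, 3, 0, 3, 0, 2, 0, 2, 1, 3, 1, 2, 1, 2, 1, 3], [2, 0, 2, 2, 2, 1, 3], [2, 0, 3, 0, 0, 2, 1, 3], [2, 0, 3, 0, 3, 0, 0, 2, 1, 2, 1, 3], [2, 0, 3, 0, 2, 0, 2, 0, 0, 3, 1, 3, 1, 2, 1, 3], [2, 0, 3, 0, 3, 0, 3, 0, 0, 2, 1, 2, 1, 2, 1, 3], [2, 0, 2, 0, 0, 3, 1, 3], [2, 0, 3, 0, 2, 2, 2, 1, 2, 1, 3], [2, 0, 3, 0, 2, 0, 2, 2, 2, 1, 3, 1, 2, 1, 3], [2, 0, 3, 0, 3, 0, 2, 0, 0, 3, 1, 2, 1, 2, 1, 3], [2, 0, 3, 0, 3, 0, 3, 0, 2, 2, 2, 1, 2, 1, 2, 1, 2, 1, 3], [2, 0,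 3, 0, 3, 0, 3, 0, 3, 0, 0, 2, 1, 2, 1, 2, 1, 2, 1, 3], [0, 0], [2, 0, 0, 3], [2, 0, 3, 0, 2, 0, 0, 3, 1, 2, 1, 3], [2, 0, 3, 0, 3, 0, 2, 2, 2, 1, 2, 1, 2, 1, 3], [2, 0, 3, 0, 2, 0, 3, 0, 0, 2, 1, 3, 1, 2, 1, 3], [2, 0, 3, 0, 3, 0, 3, 0, 2, 0, 0, 3, 1, 2, 1, 2, 1, 2, 1, 3], [0, 2]]
def IV : Nat := 0x3536333431322f302d2e2b2c292a27282526232421221f201d1e1b1c191a17181516131411120f100d0e0b0c090a070805060201040300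
def L : List Nat := [1, 2, 3, 4, 5, 6, 7, 8, 9, 10, 11, 12, 13, 14, 15, 16, 17, 18, 19, 20, 21, 22, 23, 24, 25, 26, 27, 28, 29, 30, 31, 32, 33, 34, 35, 36, 37, 38, 39, 40, 41, 42, 43, 44, 45, 46, 47, 48, 49, 50, 51, 52, 53, 54]
def gs : List Nat := [1, 2]
def base : List Nat := [5, 7, 9, 11, 13, 15, 17, 19, 21, 23, 25, 27, 29, 31, 33, 35, 37, 39, 41, 43, 45, 47, 49, 51, 53]

end Cfsg.Agent.Spor.J24
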